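import Mathlib

/-!
# Helper24 — bialgebras with a basis of group-like elements
-/

set_option autoImplicit false
universe u v w

open TensorProduct Coalgebra

namespace Groth.Agent.Lib.Helper24.MultRigid

/-- a basis consisting of group-like elements -/
structure GLBasis (S : Type u) (H : Type v) [CommRing S] [CommRing H] [Bialgebra S H] where
  ι : Type w
  b : Module.Basis ι S H
  gl : ∀ i, IsGroupLikeElem S (b i)

namespace GLBasis

section Basic
variable {S : Type u} {H : Type v} [CommRing S] [CommRing H] [Bialgebra S H] (B : GLBasis.{u, v, w} S H)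

/-- coefficient functional -/
noncomputable def cf (i : B.ι) : H →ₗ[S] S := B.b.coord i

theorem cf_b [DecidableEq B.ι] (i j : B.ι) : B.cf i (B.b j) = if j = i then 1 else 0 := by
  rw [cf, Module.Basis.coord_apply, Module.Basis.repr_self, Finsupp.single_apply]

theorem cf_cf_comul [DecidableEq B.ι] (i j : B.ι) (x : H) :
    LinearMap.mul' S S (TensorProduct.map (B.cf i) (B.cf j) (comul (R := S) x)) =
      if i = j then B.cf i x else 0 := by
  have h : (LinearMap.mul' S S ∘ₗ TensorProduct.map (B.cf i) (B.cf j) ∘ₗ comul (R := S)) =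
      if i = j then B.cf i else 0 := by
    apply B.b.ext
    intro l
    rw [LinearMap.comp_apply, LinearMap.comp_apply, (B.gl l).comul_eq_tmul_self,
      TensorProduct.map_tmul, LinearMap.mul'_apply, cf_b, cf_b]
    split_ifs with h1 h2 h3 <;> simp_all [cf_b]
  have := LinearMap.congr_fun h x
  rw [LinearMap.comp_apply, LinearMap.comp_apply] at this
  rw [this]
  split_ifs <;> rfl

theorem counit_eq_sum (x : H) :
    counit (R := S) x = (B.b.repr x).sum fun _ a => a := by
  conv_lhs => rw [← B.b.linearCombination_repr x, Finsupp.linearCombination_apply, Finsupp.sum,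
    map_sum]
  rw [Finsupp.sum]
  apply Finset.sum_congr rfl
  intro i _
  rw [map_smul, (B.gl i).counit_eq_one, smul_eq_mul, mul_one]

theorem mem_smul_top_iff (J : Ideal S) (x : H) :
    x ∈ (J • ⊤ : Submodule S H) ↔ ∀ i, B.cf i x ∈ J := by
  constructor
  · intro hx i
    refine Submodule.smul_induction_on hx ?_ ?_
    · intro r hr a _
      rw [map_smul, smul_eq_mul]
      exact Ideal.mul_mem_right _ _ hr
    · intro x y hx hy
      rw [map_add]
      exact Ideal.add_mem _ hx hy
  · intro h
    rw [← B.b.linearCombination_repr x, Finsupp.linearCombination_apply, Finsupp.sum]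
    apply Submodule.sum_mem
    intro i _
    exact Submodule.smul_mem_smul (h i) Submodule.mem_top

theorem eq_zero_of_forall_cf {x : H} (h : ∀ i, B.cf i x = 0) : x = 0 := by
  apply B.b.repr.injective
  ext i
  rw [map_zero, Finsupp.zero_apply]
  exact h i

end Basic

section Transport
variable {S : Type u} {H H' : Type v} [CommRing S] [CommRing H] [Bialgebra S H]
  [CommRing H'] [Bialgebra S H']

/-- transport along a bialgebra isomorphism -/
noncomputable def map (B : GLBasis.{u, v, w} S H) (e : H ≃ₐc[S] H') : GLBasis.{u, v, w} S H' where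
  ι := B.ι
  b := B.b.map (e : H ≃ₗ[S] H')
  gl i := by
    rw [Module.Basis.map_apply]
    exact (B.gl i).map e

end Transport

section MonAlg
variable (S : Type u) [CommRing S] (M : Type v) [CommMonoid M]

/-- the standard basis of a monoid algebra -/
noncomputable def monoidAlgebra : GLBasis.{u, max u v, v} S (MonoidAlgebra S M) where
  ι := M
  b := MonoidAlgebra.basis M S
  gl m := by
    have : MonoidAlgebra.basis M S m = MonoidAlgebra.single m 1 := by
      simp [MonoidAlgebra.basis]
    rw [this]
    exact MonoidAlgebra.isGroupLikeElem_single_one m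

end MonAlg

section BC
variable {S : Type u} {H : Type v} [CommRing S] [CommRing H] [Bialgebra S H]
  (T : Type u) [CommRing T] [Algebra S T]

theorem isGroupLikeElem_one_tmul {g : H} (hg : IsGroupLikeElem S g) :
    IsGroupLikeElem T ((1 : T) ⊗ₜ[S] g) where
  counit_eq_one := by
    rw [TensorProduct.counit_tmul, hg.counit_eq_one, one_smul]
    rfl
  comul_eq_tmul_self := by
    rw [TensorProduct.comul_tmul, hg.comul_eq_tmul_self, CommSemiring.comul_apply,
      TensorProduct.AlgebraTensorModule.tensorTensorTensorComm_tmul]

/-- base change -/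
noncomputable def baseChange (B : GLBasis.{u, v, w} S H) : GLBasis.{u, max u v, w} T (T ⊗[S] H) where
  ι := B.ι
  b := Algebra.TensorProduct.basis T B.b
  gl i := by
    rw [Algebra.TensorProduct.basis_apply]
    exact isGroupLikeElem_one_tmul T (B.gl i)

end BC

section Local
variable {S : Type u} {H : Type v} [CommRing S] [IsLocalRing S] [CommRing H] [Bialgebra S H]
  (B : GLBasis.{u, v, w} S H)

/-- over a local ring, the unit is one of the basis elements -/
theorem exists_b_eq_one : ∃ i₀, B.b i₀ = 1 := by
  classical
  have hone : IsGroupLikeElem S (1 : H) := IsGroupLikeElem.one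
  have hidem : ∀ i j, B.cf i 1 * B.cf j 1 = if i = j then B.cf i 1 else 0 := by
    intro i j
    rw [← B.cf_cf_comul i j 1, hone.comul_eq_tmul_self, TensorProduct.map_tmul,
      LinearMap.mul'_apply]
  have hsum : (B.b.repr 1).sum (fun _ a => a) = 1 := by
    rw [← B.counit_eq_sum, hone.counit_eq_one]
  have hval : ∀ i, B.cf i 1 = 0 ∨ B.cf i 1 = 1 := by
    intro i
    have h1 : IsIdempotentElem (B.cf i 1) := by
      have := hidem i i
      rw [if_pos rfl] at this
      exact this
    have h2 : B.cf i 1 * (1 - B.cf i 1) = 0 := by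
      rw [mul_sub, mul_one, h1.eq, sub_self]
    rcases IsLocalRing.isUnit_or_isUnit_one_sub_self (B.cf i 1) with hu | hu
    · right
      have := (hu.mul_right_eq_zero).mp h2
      exact (sub_eq_zero.mp this).symm
    · left
      exact (hu.mul_left_eq_zero).mp h2
  have hex : ∃ i, B.cf i 1 = 1 := by
    by_contra hcon
    push Not at hcon
    have h0 : ∀ i, B.cf i 1 = 0 := fun i => (hval i).resolve_right (hcon i)
    have : (1 : H) = 0 := B.eq_zero_of_forall_cf h0
    have h2 := hone.counit_eq_one
    rw [this, map_zero] at h2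
    exact zero_ne_one h2
  obtain ⟨i₀, hi₀⟩ := hex
  refine ⟨i₀, ?_⟩
  have hother : ∀ j, j ≠ i₀ → B.cf j 1 = 0 := by
    intro j hj
    have := hidem i₀ j
    rw [if_neg (Ne.symm hj), hi₀, one_mul] at this
    exact this
  rw [← sub_eq_zero]
  apply B.eq_zero_of_forall_cf
  intro j
  rw [map_sub, cf_b]
  by_cases hj : j = i₀
  · rw [if_pos hj.symm, hj, hi₀, sub_self]
  · rw [if_neg (Ne.symm hj), hother j hj, sub_zero]

end Local

end GLBasis

end Groth.Agent.Lib.Helper24.MultRigid
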