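import Mathlib
import Groth.Prelude.Def_SGA3b
import Groth.Agent.Lib.Helper24.MultRigid.GLBasis
import Groth.Agent.Lib.Helper24.Unip.CancelBC

/-!
# Helper24 — a group of multiplicative type is diagonalized by a finite jointly faithfully flat
family of algebras
-/

set_option autoImplicit false
universe u

open TensorProduct SGA3b

namespace Groth.Agent.Lib.Helper24.MultRigid

open Groth.Agent.Lib.Helper24.Unip.CancelBC

variable (R : Type u) [CommRing R] (A : Type u) [CommRing A] [HopfAlgebra R A]

theorem map_mem_smul_top' {N N' : Type*} [AddCommGroup N] [Module R N] [AddCommGroup N']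
    [Module R N'] (I : Ideal R) (f : N →ₗ[R] N') {x : N} (hx : x ∈ (I • ⊤ : Submodule R N)) :
    f x ∈ (I • ⊤ : Submodule R N') := by
  refine Submodule.smul_induction_on hx ?_ ?_
  · intro r hr n _
    rw [map_smul]
    exact Submodule.smul_mem_smul hr Submodule.mem_top
  · intro x y hx hy
    rw [map_add]
    exact Submodule.add_mem _ hx hy

theorem exists_piece (f : R)
    (hf : IsMultTypeConst (Localization.Away f) (Localization.Away f ⊗[R] A)) :
    ∃ (T : Type u) (_ : CommRing T) (_ : Algebra R T), Module.Flat R T ∧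
      (∀ m : Ideal R, m.IsPrime → f ∉ m → m.map (algebraMap R T) ≠ ⊤) ∧
      ∃ B : GLBasis.{u, u, u} T (T ⊗[R] A), ∃ i₀, B.b i₀ = 1 := by
  obtain ⟨R', _, _, hff, N, _, ⟨e⟩⟩ := hf
  letI : Algebra R R' :=
    ((algebraMap (Localization.Away f) R').comp (algebraMap R (Localization.Away f))).toAlgebra
  haveI : IsScalarTower R (Localization.Away f) R' := IsScalarTower.of_algebraMap_eq (fun _ => rfl)
  haveI : Module.Flat R R' := Module.Flat.trans R (Localization.Away f) R'
  refine ⟨R', inferInstance, inferInstance, inferInstance, ?_, ?_⟩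
  · intro m hm hfm htop
    have h1 : (m.map (algebraMap R (Localization.Away f))).map
        (algebraMap (Localization.Away f) R') = ⊤ := by
      rw [Ideal.map_map]
      exact htop
    have h2 := Ideal.comap_map_eq_self_of_faithfullyFlat (B := R')
      (m.map (algebraMap R (Localization.Away f)))
    rw [h1, Ideal.comap_top] at h2
    have h3 := (IsLocalization.map_algebraMap_ne_top_iff_disjoint (Submonoid.powers f)
      (Localization.Away f) m).mpr (by
        rw [Set.disjoint_left]
        rintro x ⟨n, rfl⟩ hx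
        exact hfm (hm.mem_of_pow_mem n hx))
    exact h3 h2.symm
  · refine ⟨((GLBasis.monoidAlgebra R' N).map e.symm).map (cancelBC R (Localization.Away f) R' A),
      (1 : N), ?_⟩
    change (cancelBC R (Localization.Away f) R' A) (e.symm (MonoidAlgebra.basis N R' 1)) = 1
    have : MonoidAlgebra.basis N R' (1 : N) = 1 := by
      simp [MonoidAlgebra.basis, MonoidAlgebra.one_def]
    rw [this, map_one, map_one]

theorem exists_cover (h : IsMultType R A) :
    ∃ (J : Type u) (_ : Fintype J) (_ : DecidableEq J) (T : J → Type u)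
      (_ : ∀ j, CommRing (T j)) (_ : ∀ j, Algebra R (T j)),
      Module.FaithfullyFlat R (∀ j, T j) ∧
      ∀ j, ∃ B : GLBasis.{u, u, u} (T j) (T j ⊗[R] A), ∃ i₀, B.b i₀ = 1 := by
  classical
  obtain ⟨s, hs, hall⟩ := h
  obtain ⟨s', hs's, hs'⟩ := (Ideal.span_eq_top_iff_finite s).mp hs
  have hp : ∀ j : s', ∃ (T : Type u) (_ : CommRing T) (_ : Algebra R T), Module.Flat R T ∧
      (∀ m : Ideal R, m.IsPrime → (j : R) ∉ m → m.map (algebraMap R T) ≠ ⊤) ∧
      ∃ B : GLBasis.{u, u, u} T (T ⊗[R] A), ∃ i₀, B.b i₀ = 1 :=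
    fun j => exists_piece R A j (hall j (hs's j.2))
  choose T hCR hAlg hflat hne hB using hp
  refine ⟨s', inferInstance, inferInstance, T, hCR, hAlg, ?_, hB⟩
  haveI : ∀ j, Module.Flat R (T j) := hflat
  haveI : Module.Flat R (∀ j, T j) :=
    Module.Flat.of_linearEquiv (DFinsupp.linearEquivFunOnFintype (R := R) (M := T)).symm
  refine Module.FaithfullyFlat.mk ?_
  intro m hm htop
  have hex : ∃ j : s', (j : R) ∉ m := by
    by_contra hcon
    push Not at hcon
    have : Ideal.span (s' : Set R) ≤ m := Ideal.span_le.mpr (fun x hx => hcon ⟨x, hx⟩)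
    rw [hs', top_le_iff] at this
    exact hm.ne_top this
  obtain ⟨j, hj⟩ := hex
  apply hne j m hm.isPrime hj
  rw [Ideal.eq_top_iff_one]
  have h1 : (1 : ∀ j, T j) ∈ (m • ⊤ : Submodule R (∀ j, T j)) := by
    rw [htop]
    exact Submodule.mem_top
  have h2 := map_mem_smul_top' R m (LinearMap.proj j : (∀ j, T j) →ₗ[R] T j) h1
  rw [Ideal.smul_top_eq_map] at h2
  exact h2

end Groth.Agent.Lib.Helper24.MultRigid
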