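import Mathlib
import Groth.Agent.Lib.Helper24.MultRigid.GLBasis

/-!
# Helper24 — group-like elements of a bialgebra with a basis of group-likes, modulo a nil ideal
-/

set_option autoImplicit false
universe u v w

open TensorProduct Coalgebra

namespace Groth.Agent.Lib.Helper24.MultRigid

namespace GLBasis

variable {T : Type u} {H : Type v} [CommRing T] [CommRing H] [Bialgebra T H]
  (B : GLBasis.{u, v, w} T H) (Jn : Ideal T)

theorem apply_mem_of_mem_smul_top {N : Type*} [AddCommGroup N] [Module T N] (f : N →ₗ[T] T)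
    {z : N} (hz : z ∈ (Jn • ⊤ : Submodule T N)) : f z ∈ Jn := by
  refine Submodule.smul_induction_on hz ?_ ?_
  · intro r hr n _
    rw [map_smul, smul_eq_mul]
    exact Ideal.mul_mem_right _ _ hr
  · intro x y hx hy
    rw [map_add]
    exact Ideal.add_mem _ hx hy

theorem cf_mul_cf [DecidableEq B.ι] {g : H} (hg : IsGroupLikeElem T g) (i i' : B.ι) :
    B.cf i g * B.cf i' g = if i = i' then B.cf i g else 0 := by
  rw [← B.cf_cf_comul i i' g, hg.comul_eq_tmul_self, TensorProduct.map_tmul, LinearMap.mul'_apply]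

theorem cf_idem {g : H} (hg : IsGroupLikeElem T g) (i : B.ι) : IsIdempotentElem (B.cf i g) := by
  classical
  have := B.cf_mul_cf hg i i
  rwa [if_pos rfl] at this

theorem sum_cf {g : H} (hg : IsGroupLikeElem T g) :
    ∑ i ∈ (B.b.repr g).support, B.cf i g = 1 := by
  have := B.counit_eq_sum g
  rw [hg.counit_eq_one, Finsupp.sum] at this
  exact this.symm

theorem cf_eq_zero_of_notMem {x : H} {i : B.ι} (hi : i ∉ (B.b.repr x).support) : B.cf i x = 0 := by
  rw [Finsupp.mem_support_iff, not_not] at hi
  exact hi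

theorem eq_sum (x : H) : x = ∑ i ∈ (B.b.repr x).support, B.cf i x • B.b i := by
  conv_lhs => rw [← B.b.linearCombination_repr x, Finsupp.linearCombination_apply, Finsupp.sum]
  rfl

variable {Jn}

include B in
/-- rigidity: two group-like elements congruent modulo a nil ideal are equal -/
theorem eq_of_sub_mem (hnil : ∀ x ∈ Jn, IsNilpotent x) {g g' : H} (hg : IsGroupLikeElem T g)
    (hg' : IsGroupLikeElem T g') (h : g - g' ∈ (Jn • ⊤ : Submodule T H)) : g = g' := by
  rw [← sub_eq_zero]
  apply B.eq_zero_of_forall_cf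
  intro i
  rw [map_sub, sub_eq_zero]
  apply eq_of_isNilpotent_sub_of_isIdempotentElem (B.cf_idem hg i) (B.cf_idem hg' i)
  apply hnil
  rw [← map_sub]
  exact (B.mem_smul_top_iff Jn _).mp h i

include B in
/-- lifting: an element which is group-like modulo a nil ideal is congruent to a group-like
element -/
theorem exists_groupLike_of_congr (hnil : ∀ x ∈ Jn, IsNilpotent x) (x : H)
    (h1 : comul (R := T) x - x ⊗ₜ[T] x ∈ (Jn • ⊤ : Submodule T (H ⊗[T] H)))
    (h2 : counit (R := T) x - 1 ∈ Jn) :
    ∃ g : H, IsGroupLikeElem T g ∧ g - x ∈ (Jn • ⊤ : Submodule T H) := by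
  classical
  obtain ⟨F, hF⟩ : ∃ F, F = (B.b.repr x).support := ⟨_, rfl⟩
  have hc : ∀ i i', B.cf i x * B.cf i' x - (if i = i' then B.cf i x else 0) ∈ Jn := by
    intro i i'
    have := apply_mem_of_mem_smul_top Jn
      (LinearMap.mul' T T ∘ₗ TensorProduct.map (B.cf i) (B.cf i')) h1
    rw [map_sub, LinearMap.comp_apply, LinearMap.comp_apply, B.cf_cf_comul,
      TensorProduct.map_tmul, LinearMap.mul'_apply] at this
    have h := (Ideal.neg_mem_iff Jn).mpr this
    rwa [neg_sub] at h
  have hsum : (∑ i ∈ F, B.cf i x) - 1 ∈ Jn := by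
    have := B.counit_eq_sum x
    rw [Finsupp.sum] at this
    rw [this] at h2
    rw [hF]
    exact h2
  have hcoi : CompleteOrthogonalIdempotents
      (fun i : F => Ideal.Quotient.mk Jn (B.cf (i : B.ι) x)) := by
    rw [CompleteOrthogonalIdempotents.iff_ortho_complete]
    constructor
    · intro i i' hii'
      have := hc i i'
      rw [if_neg (fun h => hii' (Subtype.ext h)), sub_zero] at this
      change Ideal.Quotient.mk Jn (B.cf (i : B.ι) x) * Ideal.Quotient.mk Jn (B.cf (i' : B.ι) x) = 0
      rw [← map_mul]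
      exact Ideal.Quotient.eq_zero_iff_mem.mpr this
    · rw [← map_sum, Finset.sum_coe_sort F (fun i => B.cf i x)]
      rw [← map_one (Ideal.Quotient.mk Jn)]
      exact Ideal.Quotient.eq.mpr hsum
  obtain ⟨e, he, hπe⟩ := CompleteOrthogonalIdempotents.lift_of_isNilpotent_ker
    (Ideal.Quotient.mk Jn) (by
      intro y hy
      rw [Ideal.mk_ker] at hy
      exact hnil y hy) hcoi (fun i => ⟨_, rfl⟩)
  refine ⟨∑ i : F, e i • B.b (i : B.ι), ⟨?_, ?_⟩, ?_⟩
  · rw [map_sum]
    simp only [map_smul, (B.gl _).counit_eq_one, smul_eq_mul, mul_one]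
    exact he.complete
  · rw [map_sum, TensorProduct.sum_tmul]
    apply Finset.sum_congr rfl
    intro i _
    rw [map_smul, (B.gl _).comul_eq_tmul_self, TensorProduct.tmul_sum]
    rw [Finset.sum_eq_single i]
    · rw [TensorProduct.smul_tmul_smul, he.idem i]
    · intro i' _ hi'
      rw [TensorProduct.smul_tmul_smul, he.ortho (Ne.symm hi'), zero_smul]
    · intro hi
      exact absurd (Finset.mem_univ i) hi
  · rw [B.eq_sum x, ← hF, ← Finset.sum_coe_sort F (fun i => B.cf i x • B.b i),
      ← Finset.sum_sub_distrib]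
    apply Submodule.sum_mem
    intro i _
    rw [← sub_smul]
    apply Submodule.smul_mem_smul _ Submodule.mem_top
    have := congrFun hπe i
    rw [Function.comp_apply] at this
    exact Ideal.Quotient.eq.mp this

end GLBasis

end Groth.Agent.Lib.Helper24.MultRigid
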