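import Mathlib
import Groth.Prelude.Def_SGA3b
import Groth.Agent.Lib.Helper24.MultRigid.NilGL
import Groth.Agent.Lib.Helper24.MultRigid.Cover

/-!
# Helper24 — over a connected base, a group-like element `u` of a group of multiplicative type is
either `1` or `u - 1` has zero annihilator
-/

set_option autoImplicit false
universe u

open TensorProduct Coalgebra SGA3b

namespace Groth.Agent.Lib.Helper24.MultRigid.AnnIdem

open Groth.Agent.Lib.Helper24.MultRigid

section Flat
variable {R : Type u} [CommRing R] (T : Type u) [CommRing T] [Algebra R T] [Module.Flat R T]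
  {N : Type u} [AddCommGroup N] [Module R N]

/-- flat base change of the annihilator of an element -/
theorem mem_map_ann_of_smul_eq_zero (x : N) (w : T) (hw : w • ((1 : T) ⊗ₜ[R] x) = 0) :
    w ∈ Ideal.map (algebraMap R T) (LinearMap.ker (LinearMap.toSpanSingleton R N x)) := by
  have h1 : (w ⊗ₜ[R] (1 : R) : T ⊗[R] R) ∈
      LinearMap.ker (AlgebraTensorModule.lTensor T T (LinearMap.toSpanSingleton R N x)) := by
    rw [LinearMap.mem_ker, AlgebraTensorModule.lTensor_tmul, LinearMap.toSpanSingleton_apply,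
      one_smul]
    rw [TensorProduct.smul_tmul', smul_eq_mul, mul_one] at hw
    exact hw
  rw [Module.Flat.ker_lTensor_eq] at h1
  obtain ⟨z, hz⟩ := h1
  have key : ∀ z : T ⊗[R] (LinearMap.ker (LinearMap.toSpanSingleton R N x)),
      AlgebraTensorModule.rid R T T (AlgebraTensorModule.lTensor T T
        (LinearMap.ker (LinearMap.toSpanSingleton R N x)).subtype z) ∈
      Ideal.map (algebraMap R T) (LinearMap.ker (LinearMap.toSpanSingleton R N x)) := by
    intro z
    induction z using TensorProduct.induction_on with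
    | zero => simp
    | tmul t a =>
      rw [AlgebraTensorModule.lTensor_tmul, AlgebraTensorModule.rid_tmul, Submodule.subtype_apply,
        Algebra.smul_def]
      exact Ideal.mul_mem_right _ _ (Ideal.mem_map_of_mem _ a.2)
    | add y z hy hz =>
      rw [map_add, map_add]
      exact Ideal.add_mem _ hy hz
  have := key z
  rw [hz, AlgebraTensorModule.rid_tmul, one_smul] at this
  exact this

end Flat

section GLB
variable {T : Type u} {H : Type u} [CommRing T] [CommRing H] [Bialgebra T H]
  (B : GLBasis.{u, u, u} T H) {i₀ : B.ι} (hi₀ : B.b i₀ = 1) {g : H} (hg : IsGroupLikeElem T g)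

include hi₀ in
theorem cf_one [DecidableEq B.ι] (i : B.ι) : B.cf i 1 = if i₀ = i then 1 else 0 := by
  rw [← hi₀, B.cf_b]

include hi₀ in
theorem mul_one_sub_eq_zero (w : T) (hw : w • (g - 1) = 0) : w * (1 - B.cf i₀ g) = 0 := by
  classical
  have := congrArg (B.cf i₀) hw
  rw [map_smul, map_sub, cf_one B hi₀, if_pos rfl, map_zero, smul_eq_mul] at this
  linear_combination -this

include hi₀ hg in
theorem cf_smul_sub_one : B.cf i₀ g • (g - 1) = 0 := by
  classical
  apply B.eq_zero_of_forall_cf
  intro i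
  rw [map_smul, map_sub, cf_one B hi₀, smul_eq_mul]
  by_cases h : i₀ = i
  · subst h
    rw [if_pos rfl, mul_sub, mul_one, (B.cf_idem hg i₀).eq, sub_self]
  · rw [if_neg h, sub_zero, B.cf_mul_cf hg, if_neg h]

end GLB

section Main
variable {R : Type u} [CommRing R] {Q : Type u} [CommRing Q] [HopfAlgebra R Q]

set_option maxHeartbeats 1000000 in
theorem eq_one_or_ann_eq_bot (hconn : ∀ e : R, IsIdempotentElem e → e = 0 ∨ e = 1)
    (hH : IsMultType R Q) {u : Q} (hu : IsGroupLikeElem R u) :
    u = 1 ∨ LinearMap.ker (LinearMap.toSpanSingleton R Q (u - 1)) = ⊥ := by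
  classical
  obtain ⟨J, _, _, T, _, _, hff, hB⟩ := exists_cover R Q hH
  haveI := hff
  choose B i₀ hi₀ using hB
  haveI : ∀ j, Module.Flat R (T j) := fun j =>
    Module.Flat.of_retract (LinearMap.single R T j) (LinearMap.proj j)
      (LinearMap.proj_comp_single_same R T j)
  obtain ⟨𝔞, h𝔞⟩ : ∃ 𝔞 : Ideal R, 𝔞 = LinearMap.ker (LinearMap.toSpanSingleton R Q (u - 1)) :=
    ⟨_, rfl⟩
  rw [← h𝔞]
  have hugl : ∀ j, IsGroupLikeElem (T j) ((1 : T j) ⊗ₜ[R] u) :=
    fun j => GLBasis.isGroupLikeElem_one_tmul (T j) hu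
  -- the idempotents
  obtain ⟨e, he⟩ : ∃ e : ∀ j, T j, ∀ j, e j = (B j).cf (i₀ j) ((1 : T j) ⊗ₜ[R] u) :=
    ⟨_, fun _ => rfl⟩
  have heid : ∀ j, IsIdempotentElem (e j) := fun j => by
    rw [he]
    exact (B j).cf_idem (hugl j) (i₀ j)
  have h1 : ∀ j, e j ∈ Ideal.map (algebraMap R (T j)) 𝔞 := by
    intro j
    rw [h𝔞]
    apply mem_map_ann_of_smul_eq_zero (T j) (u - 1) (e j)
    rw [he, TensorProduct.tmul_sub]
    exact cf_smul_sub_one (B j) (hi₀ j) (hugl j)
  have h2 : ∀ j, ∀ a ∈ 𝔞, algebraMap R (T j) a = e j * algebraMap R (T j) a := by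
    intro j a ha
    rw [h𝔞, LinearMap.mem_ker, LinearMap.toSpanSingleton_apply] at ha
    have h3 : algebraMap R (T j) a • ((1 : T j) ⊗ₜ[R] u - 1) = 0 := by
      have : (1 : T j ⊗[R] Q) = (1 : T j) ⊗ₜ[R] (1 : Q) := rfl
      rw [this, ← TensorProduct.tmul_sub, algebraMap_smul, ← TensorProduct.tmul_smul, ha,
        TensorProduct.tmul_zero]
    have h4 := mul_one_sub_eq_zero (B j) (hi₀ j) _ h3
    rw [← he] at h4
    linear_combination h4
  -- the extension of 𝔞 to the product is generated by the idempotent `e`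
  have hmap : Ideal.map (algebraMap R (∀ j, T j)) 𝔞 = Ideal.span {e} := by
    apply le_antisymm
    · rw [Ideal.map_le_iff_le_comap]
      intro a ha
      rw [Ideal.mem_comap, Ideal.mem_span_singleton']
      refine ⟨algebraMap R (∀ j, T j) a, ?_⟩
      funext j
      rw [Pi.mul_apply, Pi.algebraMap_apply, mul_comm]
      exact (h2 j a ha).symm
    · rw [Ideal.span_le, Set.singleton_subset_iff, SetLike.mem_coe]
      have hsingle : ∀ j, ∀ t ∈ Ideal.map (algebraMap R (T j)) 𝔞,
          (Pi.single j t : ∀ j, T j) ∈ Ideal.map (algebraMap R (∀ j, T j)) 𝔞 := by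
        intro j t ht
        refine Submodule.span_induction ?_ ?_ ?_ ?_ ht
        · rintro _ ⟨a, ha, rfl⟩
          have : (Pi.single j (algebraMap R (T j) a) : ∀ j, T j) =
              Pi.single j 1 * algebraMap R (∀ j, T j) a := by
            rw [← Pi.single_mul_left, one_mul, Pi.algebraMap_apply]
          rw [this]
          exact Ideal.mul_mem_left _ _ (Ideal.mem_map_of_mem _ ha)
        · rw [Pi.single_zero]
          exact Ideal.zero_mem _
        · intro x y _ _ hx hy
          rw [Pi.single_add]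
          exact Ideal.add_mem _ hx hy
        · intro s x _ hx
          rw [smul_eq_mul, Pi.single_mul]
          exact Ideal.mul_mem_left _ _ hx
      rw [← Finset.univ_sum_single e]
      exact Ideal.sum_mem _ (fun j _ => hsingle j (e j) (h1 j))
  have heid' : IsIdempotentElem e := by
    funext j
    exact (heid j).eq
  have hfg : 𝔞.FG := by
    apply Ideal.FG.of_FG_map_of_faithfullyFlat (S := ∀ j, T j)
    rw [hmap]
    exact ⟨{e}, by simp⟩
  have hidem : IsIdempotentElem 𝔞 := by
    have h3 : Ideal.map (algebraMap R (∀ j, T j)) (𝔞 * 𝔞) =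
        Ideal.map (algebraMap R (∀ j, T j)) 𝔞 := by
      rw [Ideal.map_mul, hmap, Ideal.span_singleton_mul_span_singleton, heid'.eq]
    have h4 := Ideal.comap_map_eq_self_of_faithfullyFlat (B := ∀ j, T j) (𝔞 * 𝔞)
    rw [h3, Ideal.comap_map_eq_self_of_faithfullyFlat] at h4
    exact h4.symm
  obtain ⟨e', he', h𝔞e⟩ := (Ideal.isIdempotentElem_iff_of_fg 𝔞 hfg).mp hidem
  rcases hconn e' he' with h0 | h1'
  · right
    rw [h𝔞e, h0]
    simp
  · left
    have : (1 : R) ∈ 𝔞 := by
      rw [h𝔞e, h1']
      exact Submodule.mem_span_singleton_self 1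
    rw [h𝔞, LinearMap.mem_ker, LinearMap.toSpanSingleton_apply, one_smul] at this
    exact sub_eq_zero.mp this

end Main

end Groth.Agent.Lib.Helper24.MultRigid.AnnIdem
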