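import Mathlib

/-!
# Helper24 — comultiplication of a base change, over commutative rings
-/

set_option autoImplicit false
universe u

open TensorProduct Coalgebra

namespace Groth.Agent.Lib.Helper24.MultRigid.BCPhi

variable (R : Type u) [CommRing R] (T : Type u) [CommRing T] [Algebra R T]
  (A : Type u) [CommRing A] [Bialgebra R A]

/-- `(T ⊗ A) ⊗_T (T ⊗ A) ≃ T ⊗ (A ⊗ A)` -/
noncomputable def Φ : (T ⊗[R] A) ⊗[T] (T ⊗[R] A) ≃ₗ[T] T ⊗[R] (A ⊗[R] A) :=
  (TensorProduct.AlgebraTensorModule.tensorTensorTensorComm R T R T T T A A).symm ≪≫ₗ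
    TensorProduct.AlgebraTensorModule.congr (TensorProduct.lid T T) (LinearEquiv.refl R (A ⊗[R] A))

theorem Φ_tmul (t t' : T) (a b : A) :
    Φ R T A ((t ⊗ₜ[R] a) ⊗ₜ[T] (t' ⊗ₜ[R] b)) = (t * t') ⊗ₜ[R] (a ⊗ₜ[R] b) := by
  rw [Φ, LinearEquiv.trans_apply,
    TensorProduct.AlgebraTensorModule.tensorTensorTensorComm_symm_tmul,
    TensorProduct.AlgebraTensorModule.congr_tmul, TensorProduct.lid_tmul, smul_eq_mul,
    LinearEquiv.refl_apply]

theorem Φ_comul_tmul (t : T) (a : A) :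
    Φ R T A (comul (R := T) (t ⊗ₜ[R] a)) = t ⊗ₜ[R] comul (R := R) a := by
  rw [TensorProduct.comul_tmul, CommSemiring.comul_apply, Φ, LinearEquiv.trans_apply,
    LinearEquiv.symm_apply_apply, TensorProduct.AlgebraTensorModule.congr_tmul,
    TensorProduct.lid_tmul, smul_eq_mul, one_mul, LinearEquiv.refl_apply]

theorem Φ_comul (y : T ⊗[R] A) :
    Φ R T A (comul (R := T) y) = LinearMap.lTensor T (comul (R := R) (A := A)) y := by
  induction y using TensorProduct.induction_on with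
  | zero => simp
  | tmul t a => rw [Φ_comul_tmul, LinearMap.lTensor_tmul]
  | add y z hy hz => simp only [map_add, hy, hz]

theorem Φ_defect (a : A) :
    Φ R T A (comul (R := T) ((1 : T) ⊗ₜ[R] a) - ((1 : T) ⊗ₜ[R] a) ⊗ₜ[T] ((1 : T) ⊗ₜ[R] a)) =
      (1 : T) ⊗ₜ[R] (comul (R := R) a - a ⊗ₜ[R] a) := by
  rw [map_sub, Φ_comul_tmul, Φ_tmul, mul_one, TensorProduct.tmul_sub]

theorem counit_one_tmul (a : A) :
    counit (R := T) ((1 : T) ⊗ₜ[R] a) = algebraMap R T (counit (R := R) a) := by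
  rw [TensorProduct.counit_tmul, Algebra.algebraMap_eq_smul_one]
  rfl

/-- an element of `A` which is group-like in `T ⊗ A` is group-like modulo the kernel of
`A ⊗ A → T ⊗ (A ⊗ A)` -/
theorem one_tmul_defect_eq_zero {a : A} (h : IsGroupLikeElem T ((1 : T) ⊗ₜ[R] a)) :
    (1 : T) ⊗ₜ[R] (comul (R := R) a - a ⊗ₜ[R] a) = 0 := by
  rw [← Φ_defect, h.comul_eq_tmul_self, sub_self, map_zero]

theorem isGroupLikeElem_one_tmul_of_eq_zero {a : A}
    (h1 : algebraMap R T (counit (R := R) a) = 1)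
    (h2 : (1 : T) ⊗ₜ[R] (comul (R := R) a - a ⊗ₜ[R] a) = 0) :
    IsGroupLikeElem T ((1 : T) ⊗ₜ[R] a) where
  counit_eq_one := by rw [counit_one_tmul, h1]
  comul_eq_tmul_self := by
    rw [← sub_eq_zero]
    apply (Φ R T A).injective
    rw [Φ_defect, h2, map_zero]

end Groth.Agent.Lib.Helper24.MultRigid.BCPhi
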