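import Mathlib
import Groth.Agent.Lib.Helper24.MultRigid.GLBasis
import Groth.Agent.Lib.Helper25.MultDesc

/-!
# Helper24 — rigidity of bialgebra maps into a bialgebra with a basis of group-likes
-/

set_option autoImplicit false
universe u w

open TensorProduct Coalgebra

namespace Groth.Agent.Lib.Helper24.MultRigid

open Groth.Agent.Lib.Helper25.MultDesc

section Coeff
variable {S : Type u} [CommRing S] {H C : Type u} [CommRing H] [Bialgebra S H] [CommRing C]
  [Bialgebra S C] (B : GLBasis.{u, u, w} S H) (i₀ : B.ι) (hi₀ : B.b i₀ = 1) (ψ : C →ₐc[S] H)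

/-- the coefficient of `ψ c` at the basis element `i` -/
noncomputable def uc (i : B.ι) : C →ₗ[S] S := B.cf i ∘ₗ (ψ : C →ₐ[S] H).toLinearMap

theorem uc_apply (i : B.ι) (c : C) : uc B ψ i c = B.cf i (ψ c) := rfl

theorem uc_idem (i : B.ι) (c : C) :
    LinearMap.mul' S S (TensorProduct.map (uc B ψ i) (uc B ψ i) (comul (R := S) c)) =
      uc B ψ i c := by
  classical
  unfold uc
  rw [TensorProduct.map_comp, LinearMap.comp_apply]
  have h1 : TensorProduct.map (ψ : C →ₐ[S] H).toLinearMap (ψ : C →ₐ[S] H).toLinearMap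
      (comul (R := S) c) = comul (R := S) (ψ c) :=
    LinearMap.congr_fun (CoalgHomClass.map_comp_comul ψ) c
  rw [h1, B.cf_cf_comul, if_pos rfl]
  rfl

include hi₀ in
theorem cf_dfcL_of_ne [DecidableEq B.ι] (i : B.ι) (hi : i ≠ i₀) (c : C) :
    B.cf i (dfcL ψ c) = uc B ψ i c := by
  rw [dfcL_apply, map_sub, Algebra.algebraMap_eq_smul_one, map_smul, ← hi₀, B.cf_b,
    if_neg (Ne.symm hi), smul_zero, sub_zero, uc_apply]

include hi₀ in
theorem cf_dfcL_i₀ [DecidableEq B.ι] (c : C) :
    B.cf i₀ (dfcL ψ c) =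
      - ∑ i ∈ (insert i₀ (B.b.repr (ψ c)).support).erase i₀, uc B ψ i c := by
  have h1 : counit (R := S) (ψ c) = counit (R := S) c := CoalgHomClass.counit_comp_apply ψ c
  have h2 : counit (R := S) (ψ c) =
      ∑ i ∈ insert i₀ (B.b.repr (ψ c)).support, uc B ψ i c := by
    rw [B.counit_eq_sum]
    exact Finsupp.sum_of_support_subset _ (Finset.subset_insert _ _) _ (fun _ _ => rfl)
  rw [← Finset.add_sum_erase _ _ (Finset.mem_insert_self i₀ _)] at h2
  rw [dfcL_apply, map_sub, Algebra.algebraMap_eq_smul_one, map_smul, ← hi₀, B.cf_b, if_pos rfl,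
    smul_eq_mul, mul_one, ← h1, h2, uc_apply]
  ring

include hi₀ in
theorem dfcL_mem_of_forall_uc (J : Ideal S) (h : ∀ (i : B.ι), i ≠ i₀ → ∀ c, uc B ψ i c ∈ J)
    (c : C) : dfcL ψ c ∈ (J • ⊤ : Submodule S H) := by
  classical
  rw [B.mem_smul_top_iff]
  intro i
  by_cases hi : i = i₀
  · subst hi
    rw [cf_dfcL_i₀ B i hi₀ ψ c]
    apply Ideal.neg_mem_iff _ |>.mpr
    apply Ideal.sum_mem
    intro j hj
    exact h j (Finset.ne_of_mem_erase hj) c
  · rw [cf_dfcL_of_ne B i₀ hi₀ ψ i hi c]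
    exact h i hi c

include hi₀ in
theorem uc_mem_of_forall_dfcL (J : Ideal S) (h : ∀ c, dfcL ψ c ∈ (J • ⊤ : Submodule S H))
    (i : B.ι) (hi : i ≠ i₀) (c : C) : uc B ψ i c ∈ J := by
  classical
  rw [← cf_dfcL_of_ne B i₀ hi₀ ψ i hi c]
  exact (B.mem_smul_top_iff J _).mp (h c) i

theorem uc_mem_mul (J₁ J₂ : Ideal S) (i : B.ι) (h₁ : ∀ c, uc B ψ i c ∈ J₁)
    (h₂ : ∀ c, uc B ψ i c ∈ J₂) (c : C) : uc B ψ i c ∈ J₁ * J₂ := by
  rw [← uc_idem B ψ i c]
  exact mul'_map_mem J₁ J₂ _ _ h₁ h₂ _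

include hi₀ in
/-- a bialgebra map trivial modulo `I` is trivial modulo every power of `I` -/
theorem dfcL_mem_pow (I : Ideal S) (h : ∀ c, dfcL ψ c ∈ (I • ⊤ : Submodule S H)) (k : ℕ) (c : C) :
    dfcL ψ c ∈ ((I ^ (k + 1)) • ⊤ : Submodule S H) := by
  apply dfcL_mem_of_forall_uc B i₀ hi₀ ψ
  intro i hi
  induction k with
  | zero =>
    intro c
    rw [zero_add, pow_one]
    exact uc_mem_of_forall_dfcL B i₀ hi₀ ψ I h i hi c
  | succ k ih =>
    intro c
    rw [pow_succ]
    exact uc_mem_mul B ψ _ _ i ih (uc_mem_of_forall_dfcL B i₀ hi₀ ψ I h i hi) c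

end Coeff

section Content
variable {S : Type u} [CommRing S] {H : Type u} [CommRing H] [Bialgebra S H]
  (B : GLBasis.{u, u, w} S H)

/-- the ideal generated by the coefficients of `x` -/
noncomputable def content (x : H) : Ideal S :=
  Ideal.span ((fun i => B.cf i x) '' ((B.b.repr x).support : Set B.ι))

theorem content_fg (x : H) : (content B x).FG := by
  classical
  refine ⟨((B.b.repr x).support.image fun i => B.cf i x), ?_⟩
  rw [Finset.coe_image]
  rfl

theorem mem_content_smul_top (x : H) : x ∈ (content B x • ⊤ : Submodule S H) := by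
  rw [B.mem_smul_top_iff]
  intro i
  by_cases hi : i ∈ (B.b.repr x).support
  · exact Ideal.subset_span ⟨i, hi, rfl⟩
  · have : B.cf i x = 0 := Finsupp.notMem_support_iff.mp hi
    rw [this]
    exact zero_mem _

theorem content_le_iff (x : H) (J : Ideal S) :
    content B x ≤ J ↔ x ∈ (J • ⊤ : Submodule S H) := by
  constructor
  · intro h
    exact Submodule.smul_mono_left h (mem_content_smul_top B x)
  · intro h
    rw [content, Ideal.span_le]
    rintro _ ⟨i, _, rfl⟩
    exact (B.mem_smul_top_iff J x).mp h i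

omit B in
theorem mul_mem_smul_top (J₁ J₂ : Ideal S) {a x : H} (ha : a ∈ (J₁ • ⊤ : Submodule S H))
    (hx : x ∈ (J₂ • ⊤ : Submodule S H)) : a * x ∈ ((J₁ * J₂) • ⊤ : Submodule S H) := by
  refine Submodule.smul_induction_on ha ?_ ?_
  · intro r hr y _
    refine Submodule.smul_induction_on hx ?_ ?_
    · intro r' hr' y' _
      rw [smul_mul_smul_comm]
      exact Submodule.smul_mem_smul (Ideal.mul_mem_mul hr hr') Submodule.mem_top
    · intro y₁ y₂ h₁ h₂
      rw [mul_add]
      exact add_mem h₁ h₂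
  · intro y₁ y₂ h₁ h₂
    rw [add_mul]
    exact add_mem h₁ h₂

omit B in
theorem mul_mem_smul_top_left (J : Ideal S) {a : H} (ha : a ∈ (J • ⊤ : Submodule S H)) (y : H) :
    a * y ∈ (J • ⊤ : Submodule S H) := by
  have := mul_mem_smul_top J ⊤ ha (show y ∈ ((⊤ : Ideal S) • ⊤ : Submodule S H) by
    rw [Submodule.top_smul]; trivial)
  rwa [Ideal.mul_top] at this

include B in
/-- Nakayama for elements of `H`: `x = a x` with `a ≡ 0` modulo the maximal ideal forces `x = 0` -/
theorem eq_zero_of_eq_mul [IsLocalRing S] {a x : H}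
    (ha : a ∈ (IsLocalRing.maximalIdeal S • ⊤ : Submodule S H)) (hx : x = a * x) : x = 0 := by
  have h1 : a * x ∈ ((IsLocalRing.maximalIdeal S * content B x) • ⊤ : Submodule S H) :=
    mul_mem_smul_top _ _ ha (mem_content_smul_top B x)
  rw [← hx, ← content_le_iff] at h1
  have h2 : content B x = ⊥ :=
    Submodule.eq_bot_of_le_smul_of_le_jacobson_bot (IsLocalRing.maximalIdeal S) (content B x)
      (content_fg B x) h1 (IsLocalRing.maximalIdeal_le_jacobson ⊥)
  have h3 := mem_content_smul_top B x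
  rw [h2, Submodule.bot_smul] at h3
  exact (Submodule.mem_bot S).mp h3

end Content

section FT
variable {S : Type u} [CommRing S] [IsLocalRing S] {H C : Type u} [CommRing H] [Bialgebra S H]
  [CommRing C] [Bialgebra S C] (B : GLBasis.{u, u, w} S H) (ψ : C →ₐc[S] H)

omit [IsLocalRing S] in
theorem dfcL_mul (c c' : C) :
    dfcL ψ (c * c') = dfcL ψ c * ψ c' + counit (R := S) c • dfcL ψ c' := by
  rw [dfcL_apply, dfcL_apply, dfcL_apply, map_mul, Bialgebra.counit_mul, map_mul,
    Algebra.smul_def]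
  ring

omit [IsLocalRing S] in
theorem dfcL_algebraMap (r : S) : dfcL ψ (algebraMap S C r) = 0 := by
  rw [dfcL_apply, AlgHomClass.commutes, Bialgebra.counit_algebraMap, sub_self]

include B in
/-- local rigidity, finite-type source -/
theorem dfcL_eq_zero_of_finiteType [Algebra.FiniteType S C]
    (h : ∀ c, dfcL ψ c ∈ (IsLocalRing.maximalIdeal S • ⊤ : Submodule S H)) (c : C) :
    dfcL ψ c = 0 := by
  classical
  obtain ⟨i₀, hi₀⟩ := B.exists_b_eq_one
  obtain ⟨G, hG⟩ := (Algebra.FiniteType.out : (⊤ : Subalgebra S C).FG)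
  obtain ⟨I', hI'⟩ : ∃ I' : Ideal S, I' = G.sup fun g => content B (dfcL ψ g) := ⟨_, rfl⟩
  have hfg : I'.FG := by
    rw [hI']
    exact Submodule.fg_finset_sup _ _ (fun g _ => content_fg B _)
  have hA : ∀ c, dfcL ψ c ∈ (I' • ⊤ : Submodule S H) := by
    intro c
    have hc : c ∈ Algebra.adjoin S (G : Set C) := by rw [hG]; trivial
    induction hc using Algebra.adjoin_induction with
    | mem g hg =>
      rw [← content_le_iff B, hI']
      exact Finset.le_sup (f := fun g => content B (dfcL ψ g)) hg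
    | algebraMap r => rw [dfcL_algebraMap]; exact zero_mem _
    | add a b _ _ ha hb => rw [map_add]; exact add_mem ha hb
    | mul a b _ _ ha hb =>
      rw [dfcL_mul]
      exact add_mem (mul_mem_smul_top_left I' ha _) (Submodule.smul_mem _ _ hb)
  have hB : I' ≤ IsLocalRing.maximalIdeal S • I' := by
    rw [smul_eq_mul]
    conv_lhs => rw [hI']
    apply Finset.sup_le
    intro g _
    rw [content_le_iff B]
    apply dfcL_mem_of_forall_uc B i₀ hi₀ ψ
    intro i hi c
    exact uc_mem_mul B ψ _ _ i (uc_mem_of_forall_dfcL B i₀ hi₀ ψ _ h i hi)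
      (uc_mem_of_forall_dfcL B i₀ hi₀ ψ _ hA i hi) c
  have h0 : I' = ⊥ :=
    Submodule.eq_bot_of_le_smul_of_le_jacobson_bot (IsLocalRing.maximalIdeal S) I' hfg hB
      (IsLocalRing.maximalIdeal_le_jacobson ⊥)
  have := hA c
  rw [h0, Submodule.bot_smul] at this
  exact (Submodule.mem_bot S).mp this

end FT

end Groth.Agent.Lib.Helper24.MultRigid
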