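import Mathlib
import Groth.Agent.Lib.Helper14.AmitsurMod

/-!
# Helper24 — faithfully flat descent of elements along a finite family of algebras
-/

set_option autoImplicit false
universe u

open TensorProduct

namespace Groth.Agent.Lib.Helper24.MultRigid.FamDesc

variable (R : Type u) [CommRing R] {J : Type u} [Fintype J] [DecidableEq J]
  (T : J → Type u) [∀ j, CommRing (T j)] [∀ j, Algebra R (T j)]
  (M : Type u) [AddCommGroup M] [Module R M]

/-- projection `(Π T) ⊗ M → T j ⊗ M` -/
noncomputable def q (j : J) : (∀ j, T j) ⊗[R] M →ₗ[R] T j ⊗[R] M :=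
  (LinearMap.proj j : (∀ j, T j) →ₗ[R] T j).rTensor M

/-- section of the projection -/
noncomputable def σ (j : J) : T j ⊗[R] M →ₗ[R] (∀ j, T j) ⊗[R] M :=
  (LinearMap.single R T j).rTensor M

theorem q_tmul (j : J) (b : ∀ j, T j) (m : M) : q R T M j (b ⊗ₜ[R] m) = b j ⊗ₜ[R] m := rfl

theorem σ_tmul (j : J) (t : T j) (m : M) :
    σ R T M j (t ⊗ₜ[R] m) = (Pi.single j t : ∀ j, T j) ⊗ₜ[R] m := rfl

theorem q_σ_self (j : J) (y : T j ⊗[R] M) : q R T M j (σ R T M j y) = y := by
  have : q R T M j ∘ₗ σ R T M j = LinearMap.id := by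
    rw [q, σ, ← LinearMap.rTensor_comp, LinearMap.proj_comp_single_same, LinearMap.rTensor_id]
  exact LinearMap.congr_fun this y

theorem q_σ_ne (j j' : J) (h : j ≠ j') (y : T j' ⊗[R] M) : q R T M j (σ R T M j' y) = 0 := by
  have : q R T M j ∘ₗ σ R T M j' = 0 := by
    rw [q, σ, ← LinearMap.rTensor_comp, LinearMap.proj_comp_single_ne _ _ _ _ h,
      LinearMap.rTensor_zero]
  exact LinearMap.congr_fun this y

theorem sum_σ_q (y : (∀ j, T j) ⊗[R] M) : ∑ j, σ R T M j (q R T M j y) = y := by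
  induction y using TensorProduct.induction_on with
  | zero => simp
  | tmul b m =>
    simp only [q_tmul, σ_tmul]
    rw [← TensorProduct.sum_tmul, Finset.univ_sum_single]
  | add y z hy hz => simp only [map_add, Finset.sum_add_distrib, hy, hz]

/-- projection on pairs -/
noncomputable def q₂ (j j' : J) :
    ((∀ j, T j) ⊗[R] (∀ j, T j)) ⊗[R] M →ₗ[R] (T j ⊗[R] T j') ⊗[R] M :=
  (TensorProduct.map (LinearMap.proj j : (∀ j, T j) →ₗ[R] T j)
    (LinearMap.proj j' : (∀ j, T j) →ₗ[R] T j')).rTensor M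

/-- section on pairs -/
noncomputable def σ₂ (j j' : J) :
    (T j ⊗[R] T j') ⊗[R] M →ₗ[R] ((∀ j, T j) ⊗[R] (∀ j, T j)) ⊗[R] M :=
  (TensorProduct.map (LinearMap.single R T j) (LinearMap.single R T j')).rTensor M

theorem sum_σ₂_q₂ (y : ((∀ j, T j) ⊗[R] (∀ j, T j)) ⊗[R] M) :
    ∑ j, ∑ j', σ₂ R T M j j' (q₂ R T M j j' y) = y := by
  induction y using TensorProduct.induction_on with
  | zero => simp
  | tmul c m =>
    induction c using TensorProduct.induction_on with
    | zero => simp
    | tmul b b' =>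
      have h1 : ∀ j j', σ₂ R T M j j' (q₂ R T M j j' ((b ⊗ₜ[R] b') ⊗ₜ[R] m)) =
          (Pi.single j (b j) ⊗ₜ[R] Pi.single j' (b' j')) ⊗ₜ[R] m := fun j j' => rfl
      simp only [h1]
      simp only [← TensorProduct.sum_tmul, ← TensorProduct.tmul_sum]
      rw [Finset.univ_sum_single, Finset.univ_sum_single]
    | add c d hc hd =>
      simp only [TensorProduct.add_tmul, map_add, Finset.sum_add_distrib, hc, hd]
  | add y z hy hz => simp only [map_add, Finset.sum_add_distrib, hy, hz]

theorem eq_of_q₂ {y z : ((∀ j, T j) ⊗[R] (∀ j, T j)) ⊗[R] M}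
    (h : ∀ j j', q₂ R T M j j' y = q₂ R T M j j' z) : y = z := by
  rw [← sum_σ₂_q₂ R T M y, ← sum_σ₂_q₂ R T M z]
  simp only [h]

theorem q₂_includeLeft (j j' : J) (y : (∀ j, T j) ⊗[R] M) :
    q₂ R T M j j' ((Algebra.TensorProduct.includeLeft :
      (∀ j, T j) →ₐ[R] (∀ j, T j) ⊗[R] (∀ j, T j)).toLinearMap.rTensor M y) =
    (Algebra.TensorProduct.includeLeft : T j →ₐ[R] T j ⊗[R] T j').toLinearMap.rTensor M
      (q R T M j y) := by
  induction y using TensorProduct.induction_on with
  | zero => simp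
  | tmul b m => rfl
  | add y z hy hz => simp only [map_add, hy, hz]

theorem q₂_includeRight (j j' : J) (y : (∀ j, T j) ⊗[R] M) :
    q₂ R T M j j' ((Algebra.TensorProduct.includeRight :
      (∀ j, T j) →ₐ[R] (∀ j, T j) ⊗[R] (∀ j, T j)).toLinearMap.rTensor M y) =
    (Algebra.TensorProduct.includeRight : T j' →ₐ[R] T j ⊗[R] T j').toLinearMap.rTensor M
      (q R T M j' y) := by
  induction y using TensorProduct.induction_on with
  | zero => simp
  | tmul b m => rfl
  | add y z hy hz => simp only [map_add, hy, hz]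

variable [Module.FaithfullyFlat R (∀ j, T j)]

/-- an element vanishing after each base change of a jointly faithfully flat family vanishes -/
theorem eq_zero_of_forall (x : M) (h : ∀ j, (1 : T j) ⊗ₜ[R] x = 0) : x = 0 := by
  apply Module.FaithfullyFlat.tensorProduct_mk_injective (A := R) (B := ∀ j, T j) M
  rw [map_zero, TensorProduct.mk_apply, ← sum_σ_q R T M ((1 : ∀ j, T j) ⊗ₜ[R] x)]
  apply Finset.sum_eq_zero
  intro j _
  rw [q_tmul, Pi.one_apply, h j, map_zero]

theorem eq_of_forall (x y : M) (h : ∀ j, (1 : T j) ⊗ₜ[R] x = (1 : T j) ⊗ₜ[R] y) : x = y := by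
  rw [← sub_eq_zero]
  apply eq_zero_of_forall R T M
  intro j
  rw [TensorProduct.tmul_sub, h j, sub_self]

/-- descent of a compatible family of elements -/
theorem exists_of_compatible (x : ∀ j, T j ⊗[R] M)
    (h : ∀ j j',
      (Algebra.TensorProduct.includeLeft : T j →ₐ[R] T j ⊗[R] T j').toLinearMap.rTensor M (x j) =
      (Algebra.TensorProduct.includeRight : T j' →ₐ[R] T j ⊗[R] T j').toLinearMap.rTensor M
        (x j')) :
    ∃ m : M, ∀ j, (1 : T j) ⊗ₜ[R] m = x j := by
  have hq : ∀ j, q R T M j (∑ j', σ R T M j' (x j')) = x j := by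
    intro j
    rw [map_sum, Finset.sum_eq_single j]
    · exact q_σ_self R T M j (x j)
    · intro j' _ hj'
      exact q_σ_ne R T M j j' (Ne.symm hj') (x j')
    · intro hj
      exact absurd (Finset.mem_univ j) hj
  obtain ⟨w, hw⟩ := Groth.Agent.Lib.Helper14.AmitsurMod.mem_range_of_eq R (∀ j, T j) M
    (∑ j', σ R T M j' (x j')) (by
      apply eq_of_q₂ R T M
      intro j j'
      rw [q₂_includeLeft, q₂_includeRight, hq, hq, h j j'])
  have key : ∀ (j : J) (w : R ⊗[R] M), (1 : T j) ⊗ₜ[R] (TensorProduct.lid R M w) =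
      q R T M j ((Algebra.linearMap R (∀ j, T j)).rTensor M w) := by
    intro j w
    induction w using TensorProduct.induction_on with
    | zero => simp
    | tmul r m =>
      rw [TensorProduct.lid_tmul, LinearMap.rTensor_tmul, q_tmul, Algebra.linearMap_apply,
        Algebra.algebraMap_eq_smul_one, Pi.smul_apply, Pi.one_apply, TensorProduct.smul_tmul]
    | add y z hy hz => simp only [map_add, TensorProduct.tmul_add, hy, hz]
  refine ⟨TensorProduct.lid R M w, ?_⟩
  intro j
  rw [key, hw, hq]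

end Groth.Agent.Lib.Helper24.MultRigid.FamDesc
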