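import Mathlib
import Groth.Agent.Lib.Helper24.MultRigid.NilGL

/-!
# Helper24 — a linear map sending a basis to group-like elements, bijective modulo a nil ideal,
is bijective
-/

set_option autoImplicit false
universe u v w

open TensorProduct Coalgebra

namespace Groth.Agent.Lib.Helper24.MultRigid

namespace GLBasis

variable {T : Type u} {H : Type v} [CommRing T] [CommRing H] [Bialgebra T H]
  (B : GLBasis.{u, v, w} T H) {Jn : Ideal T}
  {M : Type*} {P : Type*} [AddCommGroup P] [Module T P] (c : Module.Basis M T P)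
  (Ψ : P →ₗ[T] H)

theorem cf_Ψ (i : B.ι) (x : P) :
    B.cf i (Ψ x) = ∑ m ∈ (c.repr x).support, c.repr x m * B.cf i (Ψ (c m)) := by
  conv_lhs => rw [← c.linearCombination_repr x, Finsupp.linearCombination_apply, Finsupp.sum,
    map_sum, map_sum]
  simp only [map_smul, smul_eq_mul]

include B in
theorem bijective_of_bijective_mod (hnil : ∀ x ∈ Jn, IsNilpotent x)
    (hgl : ∀ m, IsGroupLikeElem T (Ψ (c m)))
    (hinj : ∀ m m', m ≠ m' → ∀ w : T, w • (Ψ (c m) - Ψ (c m')) = 0 → w ∈ Jn)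
    (hsurj : ∀ h : H, ∃ x : P, h - Ψ x ∈ (Jn • ⊤ : Submodule T H)) : Function.Bijective Ψ := by
  classical
  have E1 : ∀ m i, B.cf i (Ψ (c m)) * B.cf i (Ψ (c m)) = B.cf i (Ψ (c m)) :=
    fun m i => (B.cf_idem (hgl m) i).eq
  have E2 : ∀ m i i', i ≠ i' → B.cf i (Ψ (c m)) * B.cf i' (Ψ (c m)) = 0 := by
    intro m i i' h
    rw [B.cf_mul_cf (hgl m), if_neg h]
  have E4 : ∀ m m' i, m ≠ m' → B.cf i (Ψ (c m)) * B.cf i (Ψ (c m')) = 0 := by
    intro m m' i hmm'
    have hwid : IsIdempotentElem (B.cf i (Ψ (c m)) * B.cf i (Ψ (c m'))) :=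
      (B.cf_idem (hgl m) i).mul (B.cf_idem (hgl m') i)
    have hΨ0 : Ψ ((B.cf i (Ψ (c m)) * B.cf i (Ψ (c m'))) • (c m - c m')) = 0 := by
      apply B.eq_zero_of_forall_cf
      intro i'
      rw [map_smul, map_smul, smul_eq_mul, map_sub, map_sub]
      by_cases hii' : i = i'
      · subst hii'
        linear_combination (B.cf i (Ψ (c m'))) * E1 m i - (B.cf i (Ψ (c m))) * E1 m' i
      · linear_combination (B.cf i (Ψ (c m'))) * E2 m i i' hii' -
          (B.cf i (Ψ (c m))) * E2 m' i i' hii'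
    have hmem := hinj m m' hmm' _ (by rw [← map_sub, ← map_smul]; exact hΨ0)
    exact hwid.eq_zero_of_isNilpotent (hnil _ hmem)
  have E5 : ∀ i, ∃ F : Finset M, ∑ m ∈ F, B.cf i (Ψ (c m)) = 1 := by
    intro i
    obtain ⟨x, hx⟩ := hsurj (B.b i)
    refine ⟨(c.repr x).support, ?_⟩
    obtain ⟨F, hF⟩ : ∃ F, F = (c.repr x).support := ⟨_, rfl⟩
    rw [← hF]
    obtain ⟨E, hE⟩ : ∃ E, E = ∑ m ∈ F, B.cf i (Ψ (c m)) := ⟨_, rfl⟩
    rw [← hE]
    have h1 : 1 - ∑ m ∈ F, c.repr x m * B.cf i (Ψ (c m)) ∈ Jn := by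
      have := (B.mem_smul_top_iff Jn _).mp hx i
      rwa [map_sub, B.cf_b, if_pos rfl, cf_Ψ B c Ψ, ← hF] at this
    have hmulE : ∀ m ∈ F, B.cf i (Ψ (c m)) * E = B.cf i (Ψ (c m)) := by
      intro m hm
      rw [hE, Finset.mul_sum, Finset.sum_eq_single m]
      · exact E1 m i
      · intro m' _ hm'
        exact E4 m m' i (Ne.symm hm')
      · intro h
        exact absurd hm h
    have hEid : IsIdempotentElem E := by
      change E * E = E
      conv_lhs => rw [hE, Finset.sum_mul]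
      rw [hE]
      apply Finset.sum_congr rfl
      intro m hm
      rw [← hE]
      exact hmulE m hm
    have h0 : (1 - E) * ∑ m ∈ F, c.repr x m * B.cf i (Ψ (c m)) = 0 := by
      rw [Finset.mul_sum]
      apply Finset.sum_eq_zero
      intro m hm
      linear_combination (-(c.repr x m)) * hmulE m hm
    have h2 : 1 - E = (1 - E) * (1 - ∑ m ∈ F, c.repr x m * B.cf i (Ψ (c m))) := by
      rw [mul_sub, mul_one, h0, sub_zero]
    have h3 : 1 - E ∈ Jn := by
      rw [h2]
      exact Ideal.mul_mem_left _ _ h1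
    have h4 : 1 - E = 0 := (hEid.one_sub).eq_zero_of_isNilpotent (hnil _ h3)
    exact (sub_eq_zero.mp h4).symm
  constructor
  · rw [injective_iff_map_eq_zero]
    intro x hx
    apply c.repr.injective
    ext m₀
    rw [map_zero, Finsupp.zero_apply]
    have hxe : ∀ i, c.repr x m₀ * B.cf i (Ψ (c m₀)) = 0 := by
      intro i
      have h0 : B.cf i (Ψ x) = 0 := by rw [hx, map_zero]
      rw [cf_Ψ B c Ψ] at h0
      have := congrArg (· * B.cf i (Ψ (c m₀))) h0
      simp only [zero_mul, Finset.sum_mul] at this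
      rw [Finset.sum_eq_single m₀] at this
      · rw [mul_assoc, E1] at this
        exact this
      · intro m _ hm
        rw [mul_assoc, E4 m m₀ i hm, mul_zero]
      · intro hm
        rw [Finsupp.notMem_support_iff.mp hm, zero_mul, zero_mul]
    calc c.repr x m₀ = c.repr x m₀ * 1 := (mul_one _).symm
      _ = c.repr x m₀ * ∑ i ∈ (B.b.repr (Ψ (c m₀))).support, B.cf i (Ψ (c m₀)) := by
          rw [B.sum_cf (hgl m₀)]
      _ = 0 := by
          rw [Finset.mul_sum]
          exact Finset.sum_eq_zero (fun i _ => hxe i)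
  · rw [← LinearMap.range_eq_top, eq_top_iff, ← B.b.span_eq, Submodule.span_le]
    rintro _ ⟨i, rfl⟩
    obtain ⟨F, hF⟩ := E5 i
    refine ⟨∑ m ∈ F, B.cf i (Ψ (c m)) • c m, ?_⟩
    rw [← sub_eq_zero]
    apply B.eq_zero_of_forall_cf
    intro i'
    rw [map_sub, map_sum, map_sum, B.cf_b]
    simp only [map_smul, smul_eq_mul]
    by_cases h : i = i'
    · subst h
      rw [if_pos rfl]
      simp only [E1]
      rw [hF, sub_self]
    · rw [if_neg h, Finset.sum_eq_zero (fun m _ => E2 m i i' h), sub_zero]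

end GLBasis

end Groth.Agent.Lib.Helper24.MultRigid
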