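import Mathlib
import Groth.Prelude.Def_SGA3b
import Groth.Agent.Lib.Helper24.MultRigid.FamDesc
import Groth.Agent.Lib.Helper24.MultRigid.BCPhi
import Groth.Agent.Lib.Helper24.MultRigid.NilBij
import Groth.Agent.Lib.Helper24.MultRigid.Cover
import Groth.Agent.Lib.Helper25.MultDesc

/-!
# Helper24 — unique lifting of group-like elements of a group of multiplicative type through a
nil ideal
-/

set_option autoImplicit false
universe u

open TensorProduct Coalgebra SGA3b

namespace Groth.Agent.Lib.Helper24.MultRigid.DiagNil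

open Groth.Agent.Lib.Helper24.Unip.CancelBC Groth.Agent.Lib.Helper25.MultDesc
  Groth.Agent.Lib.Helper24.MultRigid

section Conv
variable {R : Type u} [CommRing R] (T : Type u) [CommRing T] [Algebra R T] {N : Type*}
  [AddCommGroup N] [Module R N] [Module T N] [IsScalarTower R T N] (I : Ideal R)

theorem mem_smul_top_iff_map (z : N) :
    z ∈ (I • ⊤ : Submodule R N) ↔ z ∈ ((I.map (algebraMap R T)) • ⊤ : Submodule T N) := by
  constructor
  · intro hz
    refine Submodule.smul_induction_on hz ?_ ?_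
    · intro i hi n _
      rw [← algebraMap_smul T i n]
      exact Submodule.smul_mem_smul (Ideal.mem_map_of_mem _ hi) Submodule.mem_top
    · intro x y hx hy
      exact Submodule.add_mem _ hx hy
  · intro hz
    have key : ∀ t ∈ I.map (algebraMap R T), ∀ n : N, t • n ∈ (I • ⊤ : Submodule R N) := by
      intro t ht
      refine Submodule.span_induction ?_ ?_ ?_ ?_ ht
      · rintro _ ⟨i, hi, rfl⟩ n
        rw [algebraMap_smul]
        exact Submodule.smul_mem_smul hi Submodule.mem_top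
      · intro n
        rw [zero_smul]
        exact Submodule.zero_mem _
      · intro x y _ _ hx hy n
        rw [add_smul]
        exact Submodule.add_mem _ (hx n) (hy n)
      · intro s x _ hx n
        rw [smul_eq_mul, mul_comm, mul_smul]
        exact hx (s • n)
    refine Submodule.smul_induction_on hz ?_ ?_
    · intro t ht n _
      exact key t ht n
    · intro x y hx hy
      exact Submodule.add_mem _ hx hy

theorem isNilpotent_of_mem_map (hI : ∀ x ∈ I, IsNilpotent x) :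
    ∀ x ∈ I.map (algebraMap R T), IsNilpotent x := by
  intro x hx
  have hle : I.map (algebraMap R T) ≤ nilradical T := by
    rw [Ideal.map_le_iff_le_comap]
    intro i hi
    rw [Ideal.mem_comap, mem_nilradical]
    exact (hI i hi).map _
  exact mem_nilradical.mp (hle hx)

end Conv

section DescMem
variable (R : Type u) [CommRing R] {J : Type u} [Fintype J] [DecidableEq J]
  (T : J → Type u) [∀ j, CommRing (T j)] [∀ j, Algebra R (T j)]
  [Module.FaithfullyFlat R (∀ j, T j)]
  (N : Type u) [AddCommGroup N] [Module R N] (I : Ideal R)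

theorem smul_tmul_quot_eq_zero (T' : Type u) [CommRing T'] [Algebra R T'] {i : R} (hi : i ∈ I)
    (w : T' ⊗[R] (N ⧸ (I • ⊤ : Submodule R N))) : i • w = 0 := by
  induction w using TensorProduct.induction_on with
  | zero => rw [smul_zero]
  | tmul t q =>
    obtain ⟨n, rfl⟩ := Submodule.Quotient.mk_surjective _ q
    rw [TensorProduct.smul_tmul', TensorProduct.smul_tmul, ← Submodule.Quotient.mk_smul,
      (Submodule.Quotient.mk_eq_zero _).mpr (Submodule.smul_mem_smul hi Submodule.mem_top),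
      TensorProduct.tmul_zero]
  | add y z hy hz => rw [smul_add, hy, hz, add_zero]

/-- descent of membership in `I • ⊤` along a jointly faithfully flat family -/
theorem mem_smul_top_of_forall (x : N)
    (h : ∀ j, (1 : T j) ⊗ₜ[R] x ∈ (I • ⊤ : Submodule R (T j ⊗[R] N))) :
    x ∈ (I • ⊤ : Submodule R N) := by
  rw [← Submodule.Quotient.mk_eq_zero]
  apply FamDesc.eq_zero_of_forall R T (N ⧸ (I • ⊤ : Submodule R N))
  intro j
  have key : ∀ z ∈ (I • ⊤ : Submodule R (T j ⊗[R] N)),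
      LinearMap.lTensor (T j) (I • ⊤ : Submodule R N).mkQ z = 0 := by
    intro z hz
    refine Submodule.smul_induction_on hz ?_ ?_
    · intro i hi n _
      rw [map_smul]
      exact smul_tmul_quot_eq_zero R N I (T j) hi _
    · intro x y hx hy
      rw [map_add, hx, hy, add_zero]
  exact key _ (h j)

end DescMem

section Main
variable {R : Type u} [CommRing R] {A : Type u} [CommRing A] [HopfAlgebra R A] {I : Ideal R}

variable (R A I) in
/-- group-like modulo `I` -/
def GLmod (a : A) : Prop :=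
  counit (R := R) a - 1 ∈ I ∧
    comul (R := R) a - a ⊗ₜ[R] a ∈ (I • ⊤ : Submodule R (A ⊗[R] A))

theorem glmod_of_quot {a : A} (h : IsGroupLikeElem (R ⧸ I) ((1 : R ⧸ I) ⊗ₜ[R] a)) :
    GLmod R A I a := by
  constructor
  · have h1 := h.counit_eq_one
    rw [BCPhi.counit_one_tmul] at h1
    have : Ideal.Quotient.mk I (counit (R := R) a) = Ideal.Quotient.mk I 1 := by
      rw [map_one]
      exact h1
    exact Ideal.Quotient.eq.mp this
  · have h2 := BCPhi.one_tmul_defect_eq_zero R (R ⧸ I) A h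
    have := sub_mem_smul_top_of_tmul_eq I (comul (R := R) a - a ⊗ₜ[R] a) 0
      (by rw [h2, TensorProduct.tmul_zero])
    rwa [sub_zero] at this

theorem glmod_one_tmul (T : Type u) [CommRing T] [Algebra R T] {a : A} (ha : GLmod R A I a) :
    comul (R := T) ((1 : T) ⊗ₜ[R] a) - ((1 : T) ⊗ₜ[R] a) ⊗ₜ[T] ((1 : T) ⊗ₜ[R] a) ∈
        ((I.map (algebraMap R T)) • ⊤ : Submodule T ((T ⊗[R] A) ⊗[T] (T ⊗[R] A))) ∧
      counit (R := T) ((1 : T) ⊗ₜ[R] a) - 1 ∈ I.map (algebraMap R T) := by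
  constructor
  · have h1 := BCPhi.Φ_defect R T A a
    rw [← LinearEquiv.eq_symm_apply] at h1
    rw [h1]
    exact map_mem_smul_top' T _ (BCPhi.Φ R T A).symm.toLinearMap
      (tmul_mem_smul_top T I (1 : T) ha.2)
  · rw [BCPhi.counit_one_tmul, ← map_one (algebraMap R T), ← map_sub]
    exact Ideal.mem_map_of_mem _ ha.1

theorem exists_lift_T (hI : ∀ x ∈ I, IsNilpotent x) (T : Type u) [CommRing T] [Algebra R T]
    (B : GLBasis.{u, u, u} T (T ⊗[R] A)) {a : A} (ha : GLmod R A I a) :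
    ∃ g : T ⊗[R] A, IsGroupLikeElem T g ∧
      g - (1 : T) ⊗ₜ[R] a ∈ (I • ⊤ : Submodule R (T ⊗[R] A)) := by
  obtain ⟨h1, h2⟩ := glmod_one_tmul T ha
  obtain ⟨g, hg, hga⟩ := B.exists_groupLike_of_congr (isNilpotent_of_mem_map T I hI) _ h1 h2
  exact ⟨g, hg, (mem_smul_top_iff_map T I _).mpr hga⟩

theorem cancelBC_one_tmul' {T₁ T' : Type u} [CommRing T₁] [CommRing T'] [Algebra R T₁]
    [Algebra R T'] (φ : T₁ →ₐ[R] T') (y : T₁ ⊗[R] A) :
    letI : Algebra T₁ T' := φ.toRingHom.toAlgebra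
    haveI : IsScalarTower R T₁ T' := IsScalarTower.of_algebraMap_eq (fun r => (φ.commutes r).symm)
    cancelBC R T₁ T' A ((1 : T') ⊗ₜ[T₁] y) = φ.toLinearMap.rTensor A y := by
  letI : Algebra T₁ T' := φ.toRingHom.toAlgebra
  haveI : IsScalarTower R T₁ T' := IsScalarTower.of_algebraMap_eq (fun r => (φ.commutes r).symm)
  induction y using TensorProduct.induction_on with
  | zero => rw [TensorProduct.tmul_zero, map_zero, map_zero]
  | tmul t a =>
    rw [cancelBC_tmul, LinearMap.rTensor_tmul, Algebra.smul_def, mul_one]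
    rfl
  | add y z hy hz => rw [TensorProduct.tmul_add, map_add, map_add, hy, hz]

theorem isGroupLikeElem_rTensor {T₁ T' : Type u} [CommRing T₁] [CommRing T'] [Algebra R T₁]
    [Algebra R T'] (φ : T₁ →ₐ[R] T') {y : T₁ ⊗[R] A} (h : IsGroupLikeElem T₁ y) :
    IsGroupLikeElem T' (φ.toLinearMap.rTensor A y) := by
  have h2 := cancelBC_one_tmul' φ y
  letI : Algebra T₁ T' := φ.toRingHom.toAlgebra
  haveI : IsScalarTower R T₁ T' := IsScalarTower.of_algebraMap_eq (fun r => (φ.commutes r).symm)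
  have h1 := (GLBasis.isGroupLikeElem_one_tmul T' h).map (cancelBC R T₁ T' A)
  rwa [h2] at h1

theorem nonempty_glBasis_of_algHom {T₁ T' : Type u} [CommRing T₁] [CommRing T'] [Algebra R T₁]
    [Algebra R T'] (φ : T₁ →ₐ[R] T') (B₁ : GLBasis.{u, u, u} T₁ (T₁ ⊗[R] A)) :
    Nonempty (GLBasis.{u, u, u} T' (T' ⊗[R] A)) := by
  letI : Algebra T₁ T' := φ.toRingHom.toAlgebra
  haveI : IsScalarTower R T₁ T' := IsScalarTower.of_algebraMap_eq (fun r => (φ.commutes r).symm)
  exact ⟨(B₁.baseChange T').map (cancelBC R T₁ T' A)⟩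

theorem pair_eq (hI : ∀ x ∈ I, IsNilpotent x) {T₁ T₂ T' : Type u} [CommRing T₁] [CommRing T₂]
    [CommRing T'] [Algebra R T₁] [Algebra R T₂] [Algebra R T'] (φ₁ : T₁ →ₐ[R] T')
    (φ₂ : T₂ →ₐ[R] T') (B₁ : GLBasis.{u, u, u} T₁ (T₁ ⊗[R] A)) (a : A)
    {y₁ : T₁ ⊗[R] A} {y₂ : T₂ ⊗[R] A} (h₁ : IsGroupLikeElem T₁ y₁) (h₂ : IsGroupLikeElem T₂ y₂)
    (hy₁ : y₁ - (1 : T₁) ⊗ₜ[R] a ∈ (I • ⊤ : Submodule R (T₁ ⊗[R] A)))
    (hy₂ : y₂ - (1 : T₂) ⊗ₜ[R] a ∈ (I • ⊤ : Submodule R (T₂ ⊗[R] A))) :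
    φ₁.toLinearMap.rTensor A y₁ = φ₂.toLinearMap.rTensor A y₂ := by
  obtain ⟨B'⟩ := nonempty_glBasis_of_algHom φ₁ B₁
  apply B'.eq_of_sub_mem (isNilpotent_of_mem_map T' I hI) (isGroupLikeElem_rTensor φ₁ h₁)
    (isGroupLikeElem_rTensor φ₂ h₂)
  rw [← mem_smul_top_iff_map T' I]
  have e₁ := map_mem_smul_top' R I (φ₁.toLinearMap.rTensor A) hy₁
  have e₂ := map_mem_smul_top' R I (φ₂.toLinearMap.rTensor A) hy₂
  rw [map_sub, LinearMap.rTensor_tmul, AlgHom.toLinearMap_apply, map_one] at e₁ e₂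
  have := Submodule.sub_mem _ e₁ e₂
  rwa [sub_sub_sub_cancel_right] at this

/-- uniqueness of group-like lifts -/
theorem eq_of_groupLike_of_sub_mem (h : IsMultType R A) (hI : ∀ x ∈ I, IsNilpotent x) {γ γ' : A}
    (hγ : IsGroupLikeElem R γ) (hγ' : IsGroupLikeElem R γ')
    (hsub : γ - γ' ∈ (I • ⊤ : Submodule R A)) : γ = γ' := by
  obtain ⟨J, _, _, T, _, _, hff, hB⟩ := exists_cover R A h
  haveI := hff
  apply FamDesc.eq_of_forall R T A
  intro j
  obtain ⟨B, -⟩ := hB j
  apply B.eq_of_sub_mem (isNilpotent_of_mem_map (T j) I hI)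
    (GLBasis.isGroupLikeElem_one_tmul (T j) hγ) (GLBasis.isGroupLikeElem_one_tmul (T j) hγ')
  rw [← TensorProduct.tmul_sub]
  exact tmul_mem_smul_top (T j) I 1 hsub

set_option maxHeartbeats 1000000 in
/-- existence of group-like lifts -/
theorem exists_groupLike_lift (h : IsMultType R A) (hI : ∀ x ∈ I, IsNilpotent x) {a : A}
    (ha : GLmod R A I a) :
    ∃ γ : A, IsGroupLikeElem R γ ∧ γ - a ∈ (I • ⊤ : Submodule R A) := by
  obtain ⟨J, _, _, T, _, _, hff, hB⟩ := exists_cover R A h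
  haveI := hff
  choose B _ using hB
  have hl : ∀ j, ∃ g : T j ⊗[R] A, IsGroupLikeElem (T j) g ∧
      g - (1 : T j) ⊗ₜ[R] a ∈ (I • ⊤ : Submodule R (T j ⊗[R] A)) :=
    fun j => exists_lift_T hI (T j) (B j) ha
  choose g hg hga using hl
  have hcompat : ∀ j j',
      (Algebra.TensorProduct.includeLeft : T j →ₐ[R] T j ⊗[R] T j').toLinearMap.rTensor A (g j) =
      (Algebra.TensorProduct.includeRight : T j' →ₐ[R] T j ⊗[R] T j').toLinearMap.rTensor A
        (g j') := by
    intro j j'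
    exact pair_eq hI (Algebra.TensorProduct.includeLeft : T j →ₐ[R] T j ⊗[R] T j')
      (Algebra.TensorProduct.includeRight : T j' →ₐ[R] T j ⊗[R] T j') (B j) a
      (hg j) (hg j') (hga j) (hga j')
  obtain ⟨γ, hγ⟩ := FamDesc.exists_of_compatible R T A g hcompat
  refine ⟨γ, ⟨?_, ?_⟩, ?_⟩
  · apply FamDesc.eq_of_forall R T R
    intro j
    have h1 := (hg j).counit_eq_one
    rw [← hγ j, BCPhi.counit_one_tmul] at h1
    have h2 : ∀ r : R, (1 : T j) ⊗ₜ[R] r = (algebraMap R (T j) r) ⊗ₜ[R] (1 : R) := by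
      intro r
      rw [Algebra.algebraMap_eq_smul_one, TensorProduct.smul_tmul, smul_eq_mul, mul_one]
    rw [h2, h2, h1, map_one]
  · apply FamDesc.eq_of_forall R T (A ⊗[R] A)
    intro j
    have h1 := BCPhi.one_tmul_defect_eq_zero R (T j) A (a := γ) (by rw [hγ j]; exact hg j)
    rwa [TensorProduct.tmul_sub, sub_eq_zero] at h1
  · apply mem_smul_top_of_forall R T A I
    intro j
    rw [TensorProduct.tmul_sub, hγ j]
    exact hga j

end Main

end Groth.Agent.Lib.Helper24.MultRigid.DiagNil
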