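import Mathlib
import Groth.Prelude.Def_SGA3b
import Groth.Agent.Lib.Helper24.MultRigid.DiagNil1

/-!
# Helper24 — a group of multiplicative type which is diagonalizable modulo a nil ideal is
diagonalizable
-/

set_option autoImplicit false
universe u

open TensorProduct Coalgebra SGA3b

namespace Groth.Agent.Lib.Helper24.MultRigid.DiagNil

open Groth.Agent.Lib.Helper24.Unip.CancelBC Groth.Agent.Lib.Helper25.MultDesc
  Groth.Agent.Lib.Helper24.MultRigid

section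
variable {R : Type u} [CommRing R] {A : Type u} [CommRing A] [HopfAlgebra R A] {I : Ideal R}

theorem exists_one_tmul_eq (y : (R ⧸ I) ⊗[R] A) : ∃ a : A, (1 : R ⧸ I) ⊗ₜ[R] a = y := by
  induction y using TensorProduct.induction_on with
  | zero => exact ⟨0, TensorProduct.tmul_zero _ _⟩
  | tmul r a =>
    obtain ⟨r, rfl⟩ := Ideal.Quotient.mk_surjective r
    refine ⟨r • a, ?_⟩
    rw [TensorProduct.tmul_smul, TensorProduct.smul_tmul', ← Ideal.Quotient.algebraMap_eq,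
      Algebra.algebraMap_eq_smul_one]
  | add y z hy hz =>
    obtain ⟨a, rfl⟩ := hy
    obtain ⟨b, rfl⟩ := hz
    exact ⟨a + b, TensorProduct.tmul_add _ _ _⟩

theorem one_tmul_eq_zero_of_mem {N : Type*} [AddCommGroup N] [Module R N] {x : N}
    (hx : x ∈ (I • ⊤ : Submodule R N)) : (1 : R ⧸ I) ⊗ₜ[R] x = 0 := by
  refine Submodule.smul_induction_on hx ?_ ?_
  · intro i hi n _
    rw [TensorProduct.tmul_smul, TensorProduct.smul_tmul', Algebra.smul_def, mul_one,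
      Ideal.Quotient.algebraMap_eq, Ideal.Quotient.eq_zero_iff_mem.mpr hi, TensorProduct.zero_tmul]
  · intro x y hx hy
    rw [TensorProduct.tmul_add, hx, hy, add_zero]

theorem one_tmul_eq_of_sub_mem {N : Type*} [AddCommGroup N] [Module R N] {x y : N}
    (hx : x - y ∈ (I • ⊤ : Submodule R N)) : (1 : R ⧸ I) ⊗ₜ[R] x = (1 : R ⧸ I) ⊗ₜ[R] y := by
  rw [← sub_eq_zero, ← TensorProduct.tmul_sub]
  exact one_tmul_eq_zero_of_mem hx

theorem mul_mem_smul_top {x : A} (hx : x ∈ (I • ⊤ : Submodule R A)) (y : A) :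
    x * y ∈ (I • ⊤ : Submodule R A) := by
  rw [Ideal.smul_top_eq_map] at hx ⊢
  exact Ideal.mul_mem_right _ _ hx

theorem mul_mem_smul_top' {x : A} (hx : x ∈ (I • ⊤ : Submodule R A)) (y : A) :
    y * x ∈ (I • ⊤ : Submodule R A) := by
  rw [mul_comm]
  exact mul_mem_smul_top hx y

end

section Bij
variable {R : Type u} [CommRing R] {A : Type u} [CommRing A] [HopfAlgebra R A] {I : Ideal R}
  {M : Type u} [CommGroup M]
  (e₀ : ((R ⧸ I) ⊗[R] A) ≃ₐc[R ⧸ I] MonoidAlgebra (R ⧸ I) M)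
  (ψ : MonoidAlgebra R M →ₐc[R] A)
  (hψ : ∀ m, e₀ ((1 : R ⧸ I) ⊗ₜ[R] ψ (MonoidAlgebra.single m 1)) = MonoidAlgebra.single m 1)

include hψ in
theorem exists_sub_mem (a' : A) :
    ∃ x₀ : MonoidAlgebra R M, a' - ψ x₀ ∈ (I • ⊤ : Submodule R A) := by
  have hspan : Submodule.span R
      (Set.range fun m : M => (1 : R ⧸ I) ⊗ₜ[R] ψ (MonoidAlgebra.single m 1)) = ⊤ := by
    rw [← Submodule.restrictScalars_span R (R ⧸ I) Ideal.Quotient.mk_surjective,
      Submodule.restrictScalars_eq_top_iff]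
    have h1 : (Set.range fun m : M => (1 : R ⧸ I) ⊗ₜ[R] ψ (MonoidAlgebra.single m 1)) =
        (e₀.symm : MonoidAlgebra (R ⧸ I) M →ₗ[R ⧸ I] _) ''
          (Set.range (MonoidAlgebra.basis M (R ⧸ I))) := by
      ext y
      constructor
      · rintro ⟨m, rfl⟩
        refine ⟨MonoidAlgebra.single m 1, ⟨m, by simp [MonoidAlgebra.basis]⟩, ?_⟩
        rw [← hψ m]
        exact e₀.symm_apply_apply _
      · rintro ⟨_, ⟨m, rfl⟩, rfl⟩
        refine ⟨m, ?_⟩
        have : MonoidAlgebra.basis M (R ⧸ I) m = MonoidAlgebra.single m 1 := by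
          simp [MonoidAlgebra.basis]
        rw [this, ← hψ m]
        exact (e₀.symm_apply_apply _).symm
    rw [h1, Submodule.span_image, (MonoidAlgebra.basis M (R ⧸ I)).span_eq, Submodule.map_top,
      LinearMap.range_eq_top]
    exact e₀.symm.surjective
  have hmem : (1 : R ⧸ I) ⊗ₜ[R] a' ∈ Submodule.span R
      (Set.range fun m : M => (1 : R ⧸ I) ⊗ₜ[R] ψ (MonoidAlgebra.single m 1)) := by
    rw [hspan]
    exact Submodule.mem_top
  have key : ∀ y ∈ Submodule.span R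
      (Set.range fun m : M => (1 : R ⧸ I) ⊗ₜ[R] ψ (MonoidAlgebra.single m 1)),
      ∃ x₀ : MonoidAlgebra R M, y = (1 : R ⧸ I) ⊗ₜ[R] ψ x₀ := by
    intro y hy
    refine Submodule.span_induction ?_ ?_ ?_ ?_ hy
    · rintro _ ⟨m, rfl⟩
      exact ⟨_, rfl⟩
    · exact ⟨0, by rw [map_zero, TensorProduct.tmul_zero]⟩
    · rintro _ _ _ _ ⟨x, rfl⟩ ⟨y, rfl⟩
      exact ⟨x + y, by rw [map_add, TensorProduct.tmul_add]⟩
    · rintro r _ _ ⟨x, rfl⟩
      exact ⟨r • x, by rw [map_smul, TensorProduct.tmul_smul]⟩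
  obtain ⟨x₀, hx₀⟩ := key _ hmem
  exact ⟨x₀, sub_mem_smul_top_of_tmul_eq I _ _ hx₀⟩

/-- the coefficient functional `A → R/I` at `m` -/
noncomputable def fm (m : M) : A →ₗ[R] R ⧸ I :=
  ((cf m : MonoidAlgebra (R ⧸ I) M →ₗ[R ⧸ I] R ⧸ I).restrictScalars R) ∘ₗ
    ((e₀ : ((R ⧸ I) ⊗[R] A) →ₗ[R ⧸ I] MonoidAlgebra (R ⧸ I) M).restrictScalars R) ∘ₗ
      (TensorProduct.mk R (R ⧸ I) A 1)

include hψ in
theorem fm_ψ [DecidableEq M] (m m' : M) :
    fm e₀ m (ψ (MonoidAlgebra.single m' 1)) = if m' = m then 1 else 0 := by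
  change cf m (e₀ ((1 : R ⧸ I) ⊗ₜ[R] ψ (MonoidAlgebra.single m' 1))) = _
  rw [hψ, cf_single]

include hψ in
theorem mem_of_smul_eq_zero (T : Type u) [CommRing T] [Algebra R T] (m m' : M) (hmm' : m ≠ m')
    (w : T) (hw : w • ((1 : T) ⊗ₜ[R] ψ (MonoidAlgebra.single m 1) -
      (1 : T) ⊗ₜ[R] ψ (MonoidAlgebra.single m' 1)) = 0) : w ∈ I.map (algebraMap R T) := by
  classical
  have h1 := congrArg ((fm e₀ m).baseChange T) hw
  rw [map_zero, map_smul, map_sub, LinearMap.baseChange_tmul, LinearMap.baseChange_tmul,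
    fm_ψ e₀ ψ hψ, fm_ψ e₀ ψ hψ, if_pos rfl, if_neg (Ne.symm hmm'), TensorProduct.tmul_zero,
    sub_zero, TensorProduct.smul_tmul', smul_eq_mul, mul_one] at h1
  have h2 := congrArg (TensorProduct.tensorQuotEquivQuotSMul T I) h1
  rw [map_zero, ← map_one (Ideal.Quotient.mk I), TensorProduct.tensorQuotEquivQuotSMul_tmul_mk,
    one_smul, Submodule.Quotient.mk_eq_zero, Ideal.smul_top_eq_map] at h2
  exact h2

end Bij

end Groth.Agent.Lib.Helper24.MultRigid.DiagNil
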