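import Mathlib
import Groth.Prelude.Def_SGA3b
import Groth.Agent.Lib.Helper24.MultRigid.DiagNil2

/-!
# Helper24 — a group of multiplicative type which is diagonalizable modulo a nil ideal is
diagonalizable (main theorem)
-/

set_option autoImplicit false
universe u

open TensorProduct Coalgebra SGA3b

namespace Groth.Agent.Lib.Helper24.MultRigid.DiagNil

open Groth.Agent.Lib.Helper24.Unip.CancelBC Groth.Agent.Lib.Helper25.MultDesc
  Groth.Agent.Lib.Helper24.MultRigid

variable {R : Type u} [CommRing R] {A : Type u} [CommRing A] [HopfAlgebra R A] {I : Ideal R}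
  {M : Type u} [CommGroup M]

theorem basis_eq_single (S : Type u) [CommRing S] (m : M) :
    MonoidAlgebra.basis M S m = MonoidAlgebra.single m 1 := by
  simp [MonoidAlgebra.basis]

set_option maxHeartbeats 1000000 in
theorem bijective_ψ (h : IsMultType R A) (hI : ∀ x ∈ I, IsNilpotent x)
    (e₀ : ((R ⧸ I) ⊗[R] A) ≃ₐc[R ⧸ I] MonoidAlgebra (R ⧸ I) M)
    (ψ : MonoidAlgebra R M →ₐc[R] A)
    (hψ : ∀ m, e₀ ((1 : R ⧸ I) ⊗ₜ[R] ψ (MonoidAlgebra.single m 1)) = MonoidAlgebra.single m 1) :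
    Function.Bijective ψ := by
  classical
  obtain ⟨J, _, _, T, _, _, hff, hB⟩ := exists_cover R A h
  haveI := hff
  choose B _ using hB
  obtain ⟨ψl, hψl⟩ : ∃ ψl : MonoidAlgebra R M →ₗ[R] A, ∀ x, ψl x = ψ x :=
    ⟨ψ.toCoalgHom.toLinearMap, fun _ => rfl⟩
  have hbc : ∀ j, Function.Bijective (ψl.baseChange (T j)) := by
    intro j
    apply (B j).bijective_of_bijective_mod
      (Algebra.TensorProduct.basis (T j) (MonoidAlgebra.basis M R)) _
      (isNilpotent_of_mem_map (T j) I hI)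
    · intro m
      rw [Algebra.TensorProduct.basis_apply, LinearMap.baseChange_tmul, basis_eq_single, hψl]
      exact GLBasis.isGroupLikeElem_one_tmul (T j)
        ((MonoidAlgebra.isGroupLikeElem_single_one m).map ψ)
    · intro m m' hmm' w hw
      rw [Algebra.TensorProduct.basis_apply, Algebra.TensorProduct.basis_apply,
        LinearMap.baseChange_tmul, LinearMap.baseChange_tmul, basis_eq_single, basis_eq_single,
        hψl, hψl] at hw
      exact mem_of_smul_eq_zero e₀ ψ hψ (T j) m m' hmm' w hw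
    · intro hh
      induction hh using TensorProduct.induction_on with
      | zero => exact ⟨0, by rw [map_zero, sub_zero]; exact Submodule.zero_mem _⟩
      | tmul t a' =>
        obtain ⟨x₀, hx₀⟩ := exists_sub_mem e₀ ψ hψ a'
        refine ⟨t ⊗ₜ[R] x₀, ?_⟩
        rw [LinearMap.baseChange_tmul, hψl, ← TensorProduct.tmul_sub]
        exact tmul_mem_smul_top (T j) I t hx₀
      | add y z hy hz =>
        obtain ⟨x, hx⟩ := hy
        obtain ⟨x', hx'⟩ := hz
        refine ⟨x + x', ?_⟩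
        rw [map_add, add_sub_add_comm]
        exact Submodule.add_mem _ hx hx'
  constructor
  · rw [injective_iff_map_eq_zero]
    intro x hx
    apply FamDesc.eq_zero_of_forall R T (MonoidAlgebra R M)
    intro j
    apply (hbc j).1
    rw [map_zero, LinearMap.baseChange_tmul, hψl, hx, TensorProduct.tmul_zero]
  · intro y
    have h0 : (LinearMap.range ψl).mkQ y = 0 := by
      apply FamDesc.eq_zero_of_forall R T (A ⧸ LinearMap.range ψl)
      intro j
      obtain ⟨z, hz⟩ := (hbc j).2 ((1 : T j) ⊗ₜ[R] y)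
      have h1 : (1 : T j) ⊗ₜ[R] (LinearMap.range ψl).mkQ y =
          LinearMap.lTensor (T j) (LinearMap.range ψl).mkQ ((1 : T j) ⊗ₜ[R] y) := rfl
      rw [h1, ← hz, LinearMap.baseChange_eq_ltensor, ← LinearMap.lTensor_comp_apply,
        LinearMap.range_mkQ_comp, LinearMap.lTensor_zero, LinearMap.zero_apply]
    rw [Submodule.mkQ_apply, Submodule.Quotient.mk_eq_zero] at h0
    obtain ⟨x, hx⟩ := h0
    exact ⟨x, by rw [← hψl, hx]⟩

theorem isDiag_of_isDiag_mod_nil (hI : ∀ x ∈ I, IsNilpotent x) (h : IsMultType R A)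
    (h0 : IsDiag (R ⧸ I) ((R ⧸ I) ⊗[R] A)) : IsDiag R A := by
  classical
  obtain ⟨M, _, ⟨e₀⟩⟩ := h0
  choose a ha using fun m : M =>
    exists_one_tmul_eq (I := I) (A := A) (e₀.symm (MonoidAlgebra.single m 1))
  have hgl : ∀ m, GLmod R A I (a m) := fun m => glmod_of_quot (by
    rw [ha m]
    exact (MonoidAlgebra.isGroupLikeElem_single_one m).map e₀.symm)
  choose γ hγgl hγa using fun m => exists_groupLike_lift h hI (hgl m)
  have haa : ∀ m m', a (m * m') - a m * a m' ∈ (I • ⊤ : Submodule R A) := by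
    intro m m'
    apply sub_mem_smul_top_of_tmul_eq I
    rw [ha, ← one_mul (1 : R ⧸ I), ← Algebra.TensorProduct.tmul_mul_tmul, ha, ha, ← map_mul,
      MonoidAlgebra.single_mul_single, mul_one]
  have ha1 : a 1 - 1 ∈ (I • ⊤ : Submodule R A) := by
    apply sub_mem_smul_top_of_tmul_eq I
    rw [ha, ← MonoidAlgebra.one_def, map_one]
    rfl
  have hmul : ∀ m m', γ (m * m') = γ m * γ m' := by
    intro m m'
    apply eq_of_groupLike_of_sub_mem h hI (hγgl _) ((hγgl m).mul (hγgl m'))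
    have e1 : γ (m * m') - γ m * γ m' = (γ (m * m') - a (m * m')) + (a (m * m') - a m * a m') -
        (a m) * (γ m' - a m') - (γ m - a m) * γ m' := by ring
    rw [e1]
    exact Submodule.sub_mem _ (Submodule.sub_mem _ (Submodule.add_mem _ (hγa _) (haa m m'))
      (mul_mem_smul_top' (hγa m') _)) (mul_mem_smul_top (hγa m) _)
  have hone : γ 1 = 1 := by
    apply eq_of_groupLike_of_sub_mem h hI (hγgl 1) IsGroupLikeElem.one
    have : γ 1 - 1 = (γ 1 - a 1) + (a 1 - 1) := by ring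
    rw [this]
    exact Submodule.add_mem _ (hγa 1) ha1
  obtain ⟨ℓ, hℓ⟩ : ∃ ℓ : M →* A, ∀ m, ℓ m = γ m :=
    ⟨{ toFun := γ, map_one' := hone, map_mul' := hmul }, fun _ => rfl⟩
  obtain ⟨ψ₀, hψ₀⟩ : ∃ ψ₀ : MonoidAlgebra R M →ₐ[R] A,
      ∀ m, ψ₀ (MonoidAlgebra.single m 1) = γ m := by
    refine ⟨MonoidAlgebra.lift R A M ℓ, fun m => ?_⟩
    rw [MonoidAlgebra.lift_single, one_smul, hℓ]
  obtain ⟨ψ, hψ'⟩ : ∃ ψ : MonoidAlgebra R M →ₐc[R] A, ∀ x, ψ x = ψ₀ x := by
    refine ⟨BialgHom.ofAlgHom ψ₀ ?_ ?_, fun _ => rfl⟩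
    · apply MonoidAlgebra.algHom_ext
      intro m
      rw [AlgHom.comp_apply, hψ₀, Bialgebra.counitAlgHom_apply, Bialgebra.counitAlgHom_apply,
        (hγgl m).counit_eq_one, (MonoidAlgebra.isGroupLikeElem_single_one m).counit_eq_one]
      exact Subsingleton.elim _ _
    · apply MonoidAlgebra.algHom_ext
      intro m
      rw [AlgHom.comp_apply, AlgHom.comp_apply, hψ₀, Bialgebra.comulAlgHom_apply,
        Bialgebra.comulAlgHom_apply, (hγgl m).comul_eq_tmul_self,
        (MonoidAlgebra.isGroupLikeElem_single_one m).comul_eq_tmul_self,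
        Algebra.TensorProduct.map_tmul, hψ₀]
      exact Subsingleton.elim _ _
  have hψ : ∀ m, e₀ ((1 : R ⧸ I) ⊗ₜ[R] ψ (MonoidAlgebra.single m 1)) =
      MonoidAlgebra.single m 1 := by
    intro m
    rw [hψ', hψ₀, one_tmul_eq_of_sub_mem (hγa m), ha, e₀.apply_symm_apply]
  have hbij := bijective_ψ h hI e₀ ψ hψ
  exact ⟨M, inferInstance, ⟨(BialgEquiv.ofBijective ψ hbij).symm⟩⟩

end Groth.Agent.Lib.Helper24.MultRigid.DiagNil
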