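import Mathlib
import Groth.Prelude.Def_SGA3b
import Groth.Agent.Lib.Helper24.MultRigid.GLBasis
import Groth.Agent.Lib.Helper24.Unip.CancelBC

/-!
# Helper24 — a group of multiplicative type over a local ring is diagonalized by a faithfully flat
local extension
-/

set_option autoImplicit false
universe u

open TensorProduct SGA3b

namespace Groth.Agent.Lib.Helper24.MultRigid

open Groth.Agent.Lib.Helper24.Unip.CancelBC

variable (R : Type u) [CommRing R] [IsLocalRing R] (A : Type u) [CommRing A] [HopfAlgebra R A]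

theorem exists_unit_of_cover (s : Set R) (hs : Ideal.span s = ⊤) : ∃ f ∈ s, IsUnit f := by
  by_contra hcon
  push Not at hcon
  have h1 : Ideal.span s ≤ IsLocalRing.maximalIdeal R := by
    rw [Ideal.span_le]
    intro x hx
    exact (IsLocalRing.mem_maximalIdeal x).mpr (hcon x hx)
  rw [hs, top_le_iff] at h1
  exact Ideal.IsPrime.ne_top' h1

/-- first step: a faithfully flat extension diagonalizing `A` -/
theorem exists_ff_glBasis (h : IsMultType R A) :
    ∃ (R₂ : Type u) (_ : CommRing R₂) (_ : Algebra R R₂), Module.FaithfullyFlat R R₂ ∧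
      Nonempty (GLBasis.{u, u, u} R₂ (R₂ ⊗[R] A)) := by
  obtain ⟨s, hs, hall⟩ := h
  obtain ⟨f, hfs, hf⟩ := exists_unit_of_cover R s hs
  obtain ⟨R₂, _, _, hff, M, _, ⟨e⟩⟩ := hall f hfs
  letI : Algebra R R₂ :=
    ((algebraMap (Localization.Away f) R₂).comp (algebraMap R (Localization.Away f))).toAlgebra
  haveI : IsScalarTower R (Localization.Away f) R₂ := IsScalarTower.of_algebraMap_eq (fun _ => rfl)
  have hle : Submonoid.powers f ≤ IsUnit.submonoid R := by
    rintro x ⟨n, rfl⟩
    exact hf.pow n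
  let e₀ : R ≃ₐ[R] Localization.Away f := IsLocalization.atUnits R (Submonoid.powers f) hle
  haveI : Module.FaithfullyFlat R (Localization.Away f) :=
    Module.FaithfullyFlat.of_linearEquiv R R e₀.symm.toLinearEquiv
  haveI : Module.FaithfullyFlat R R₂ := Module.FaithfullyFlat.trans R (Localization.Away f) R₂
  refine ⟨R₂, inferInstance, inferInstance, inferInstance, ⟨?_⟩⟩
  exact ((GLBasis.monoidAlgebra R₂ M).map e.symm).map (cancelBC R (Localization.Away f) R₂ A)

/-- second step: the extension can be taken local, with a local structure map -/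
theorem exists_local_ff_glBasis (h : IsMultType R A) :
    ∃ (R₃ : Type u) (_ : CommRing R₃) (_ : Algebra R R₃) (_ : IsLocalRing R₃),
      Module.FaithfullyFlat R R₃ ∧ IsLocalHom (algebraMap R R₃) ∧
      Nonempty (GLBasis.{u, u, u} R₃ (R₃ ⊗[R] A)) := by
  obtain ⟨R₂, _, _, hff, ⟨B₂⟩⟩ := exists_ff_glBasis R A h
  have hne : Ideal.map (algebraMap R R₂) (IsLocalRing.maximalIdeal R) ≠ ⊤ := by
    intro htop
    have h1 := Ideal.comap_map_eq_self_of_faithfullyFlat (B := R₂) (IsLocalRing.maximalIdeal R)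
    rw [htop, Ideal.comap_top] at h1
    exact Ideal.IsPrime.ne_top' h1.symm
  obtain ⟨𝔮, h𝔮max, h𝔮le⟩ := Ideal.exists_le_maximal _ hne
  haveI : 𝔮.IsPrime := h𝔮max.isPrime
  haveI : Module.Flat R (Localization.AtPrime 𝔮) := Module.Flat.trans R R₂ (Localization.AtPrime 𝔮)
  haveI hloc : IsLocalHom (algebraMap R (Localization.AtPrime 𝔮)) := by
    constructor
    intro r hr
    by_contra hnu
    have h1 : r ∈ IsLocalRing.maximalIdeal R := (IsLocalRing.mem_maximalIdeal r).mpr hnu
    have h2 : algebraMap R R₂ r ∈ 𝔮 := h𝔮le (Ideal.mem_map_of_mem _ h1)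
    have h3 : algebraMap R₂ (Localization.AtPrime 𝔮) (algebraMap R R₂ r) ∈
        IsLocalRing.maximalIdeal (Localization.AtPrime 𝔮) :=
      (IsLocalization.AtPrime.to_map_mem_maximal_iff (Localization.AtPrime 𝔮) 𝔮 _).mpr h2
    exact (IsLocalRing.mem_maximalIdeal _).mp h3 hr
  haveI : Module.FaithfullyFlat R (Localization.AtPrime 𝔮) :=
    Module.FaithfullyFlat.of_flat_of_isLocalHom
  refine ⟨Localization.AtPrime 𝔮, inferInstance, inferInstance, inferInstance, inferInstance,
    hloc, ⟨?_⟩⟩
  exact (B₂.baseChange (Localization.AtPrime 𝔮)).map (cancelBC R R₂ (Localization.AtPrime 𝔮) A)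

end Groth.Agent.Lib.Helper24.MultRigid
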