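import Mathlib
import Groth.Prelude.Def_SGA3b
import Groth.Agent.Lib.Helper24.MultRigid.DiagLocal
import Groth.Agent.Lib.Helper24.MultRigid.LocalMT
import Groth.Agent.Lib.Helper25.MultDescComm

/-!
# Helper24 — rigidity of homomorphisms from a group of multiplicative type over a local base
-/

set_option autoImplicit false
universe u

open TensorProduct SGA3b

namespace Groth.Agent.Lib.Helper24.MultRigid

open Groth.Agent.Lib.Helper25.MultDesc

section Descent
variable {R : Type u} [CommRing R] (R' : Type u) [CommRing R'] [Algebra R R']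
  {N : Type u} [AddCommGroup N] [Module R N]

theorem smul_eq_zero_of_mem_map (J : Ideal R) {r' : R'} (hr' : r' ∈ J.map (algebraMap R R'))
    (z : R' ⊗[R] (N ⧸ (J • ⊤ : Submodule R N))) : r' • z = 0 := by
  have h0 : ∀ j ∈ J, ∀ z : R' ⊗[R] (N ⧸ (J • ⊤ : Submodule R N)), (algebraMap R R' j) • z = 0 := by
    intro j hj z
    rw [algebraMap_smul]
    induction z using TensorProduct.induction_on with
    | zero => simp
    | tmul s q =>
      obtain ⟨n, rfl⟩ := Submodule.Quotient.mk_surjective _ q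
      rw [← TensorProduct.tmul_smul, ← Submodule.Quotient.mk_smul,
        (Submodule.Quotient.mk_eq_zero _).mpr (Submodule.smul_mem_smul hj Submodule.mem_top),
        TensorProduct.tmul_zero]
    | add x y hx hy => rw [smul_add, hx, hy, add_zero]
  unfold Ideal.map at hr'
  induction hr' using Submodule.span_induction generalizing z with
  | mem x hx =>
    obtain ⟨j, hj, rfl⟩ := hx
    exact h0 j hj z
  | zero => rw [zero_smul]
  | add x y _ _ hx hy => rw [add_smul, hx, hy, add_zero]
  | smul a x _ hx => rw [smul_eq_mul, mul_smul, hx, smul_zero]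

theorem mem_smul_top_of_one_tmul_mem [Module.FaithfullyFlat R R'] (J : Ideal R) (y : N)
    (h : (1 : R') ⊗ₜ[R] y ∈ ((J.map (algebraMap R R')) • ⊤ : Submodule R' (R' ⊗[R] N))) :
    y ∈ (J • ⊤ : Submodule R N) := by
  have hkill : ∀ t ∈ ((J.map (algebraMap R R')) • ⊤ : Submodule R' (R' ⊗[R] N)),
      LinearMap.baseChange R' (J • ⊤ : Submodule R N).mkQ t = 0 := by
    intro t ht
    refine Submodule.smul_induction_on ht ?_ ?_
    · intro r' hr' a _
      rw [map_smul]
      exact smul_eq_zero_of_mem_map R' J hr' _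
    · intro x z hx hz
      rw [map_add, hx, hz, add_zero]
  have h1 := hkill _ h
  rw [LinearMap.baseChange_tmul] at h1
  have h2 : (J • ⊤ : Submodule R N).mkQ y = 0 := by
    apply Module.FaithfullyFlat.tensorProduct_mk_injective (A := R) (B := R')
    rw [TensorProduct.mk_apply, map_zero]
    exact h1
  exact (Submodule.Quotient.mk_eq_zero _).mp h2

end Descent

section Main
variable (R : Type u) [CommRing R] [IsLocalRing R] (A : Type u) [CommRing A] [HopfAlgebra R A]
  (C : Type u) [CommRing C] [Bialgebra R C]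

theorem map_maximalIdeal_le (R₃ : Type u) [CommRing R₃] [Algebra R R₃] [IsLocalRing R₃]
    [IsLocalHom (algebraMap R R₃)] :
    (IsLocalRing.maximalIdeal R).map (algebraMap R R₃) ≤ IsLocalRing.maximalIdeal R₃ := by
  rw [Ideal.map_le_iff_le_comap]
  intro r hr
  rw [Ideal.mem_comap, IsLocalRing.mem_maximalIdeal]
  intro hu
  exact (IsLocalRing.mem_maximalIdeal r).mp hr (IsLocalHom.map_nonunit r hu)

/-- local rigidity for homomorphisms from a group of multiplicative type -/
theorem trivial_of_isMultType_local (hft : Algebra.FiniteType R A) (hH : IsMultType R A)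
    (hC : IsNoetherianRing R ∨ Algebra.FiniteType R C) (φ : C →ₐc[R] A)
    (h0 : ∀ c, dfcL φ c ∈ (IsLocalRing.maximalIdeal R • ⊤ : Submodule R A)) (c : C) :
    dfcL φ c = 0 := by
  obtain ⟨R₃, _, _, _, hff, hloc, ⟨B₃⟩⟩ := exists_local_ff_glBasis R A hH
  have h1 : ∀ x, dfcL (bc R₃ φ) x ∈
      (((IsLocalRing.maximalIdeal R).map (algebraMap R R₃)) • ⊤ :
        Submodule R₃ (R₃ ⊗[R] A)) := by
    intro x
    rw [dfcL_bc]
    exact lTensor_mem_smul_top _ _ (dfcL φ) h0 x
  have h1' : ∀ x, dfcL (bc R₃ φ) x ∈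
      (IsLocalRing.maximalIdeal R₃ • ⊤ : Submodule R₃ (R₃ ⊗[R] A)) :=
    fun x => Submodule.smul_mono_left (map_maximalIdeal_le R R₃) (h1 x)
  have hdesc : (1 : R₃) ⊗ₜ[R] dfcL φ c = 0 → dfcL φ c = 0 := by
    intro h
    apply Module.FaithfullyFlat.tensorProduct_mk_injective (A := R) (B := R₃)
    rw [TensorProduct.mk_apply, map_zero]
    exact h
  have hone : ∀ c, dfcL (bc R₃ φ) ((1 : R₃) ⊗ₜ[R] c) = (1 : R₃) ⊗ₜ[R] dfcL φ c := by
    intro c
    rw [dfcL_bc, LinearMap.lTensor_tmul]
  apply hdesc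
  rcases hC with hnoeth | hCft
  · -- Noetherian base: Krull's intersection theorem
    haveI : IsNoetherianRing A := Algebra.FiniteType.isNoetherianRing R A
    obtain ⟨i₀, hi₀⟩ := B₃.exists_b_eq_one
    obtain ⟨y, hy⟩ : ∃ y, y = dfcL φ c := ⟨_, rfl⟩
    rw [← hy]
    have hpow : ∀ k : ℕ, y ∈ ((IsLocalRing.maximalIdeal R) ^ (k + 1) • ⊤ : Submodule R A) := by
      intro k
      apply mem_smul_top_of_one_tmul_mem R₃
      rw [Ideal.map_pow, hy, ← hone]
      exact dfcL_mem_pow B₃ i₀ hi₀ (bc R₃ φ) _ h1 k _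
    have hinf : y ∈ (⨅ i : ℕ, ((IsLocalRing.maximalIdeal R).map (algebraMap R A)) ^ i • ⊤ :
        Submodule A A) := by
      rw [Submodule.mem_iInf]
      intro i
      cases i with
      | zero => rw [pow_zero, Ideal.one_eq_top, Submodule.top_smul]; trivial
      | succ k =>
        rw [smul_eq_mul, Ideal.mul_top, ← Ideal.map_pow]
        have := hpow k
        rw [Ideal.smul_top_eq_map] at this
        exact this
    obtain ⟨⟨a, ha⟩, hay⟩ := (Ideal.mem_iInf_smul_pow_eq_bot_iff _ y).mp hinf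
    have ha' : (1 : R₃) ⊗ₜ[R] a ∈ (IsLocalRing.maximalIdeal R₃ • ⊤ : Submodule R₃ (R₃ ⊗[R] A)) := by
      have h2 : a ∈ (IsLocalRing.maximalIdeal R • ⊤ : Submodule R A) := by
        rw [Ideal.smul_top_eq_map]
        exact ha
      exact Submodule.smul_mono_left (map_maximalIdeal_le R R₃) (tmul_mem_smul_top R₃ _ 1 h2)
    apply eq_zero_of_eq_mul B₃ ha'
    rw [Algebra.TensorProduct.tmul_mul_tmul, mul_one]
    change _ = (1 : R₃) ⊗ₜ[R] (a • y)
    rw [hay]
  · -- finite type source: Nakayama on the coefficient ideal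
    rw [← hone]
    exact dfcL_eq_zero_of_finiteType B₃ (bc R₃ φ) h1' _

end Main

end Groth.Agent.Lib.Helper24.MultRigid
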