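import Mathlib
import Groth.Agent.Lib.Helper24.MultRigid.RigidLocal

/-!
# Helper24 — two homomorphisms from a group of multiplicative type to a commutative group over a
local base which agree on the closed fibre are equal
-/

set_option autoImplicit false
universe u

open TensorProduct SGA3b WithConv

namespace Groth.Agent.Lib.Helper24.MultRigid

open Groth.Agent.Lib.Helper25.MultDesc

variable (R : Type u) [CommRing R] [IsLocalRing R] (A : Type u) [CommRing A] [HopfAlgebra R A]
  (C : Type u) [CommRing C] [HopfAlgebra R C] [Coalgebra.IsCocomm R C]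

theorem eq_of_isMultType_local (hft : Algebra.FiniteType R A) (hH : IsMultType R A)
    (hC : IsNoetherianRing R ∨ Algebra.FiniteType R C)
    (φ ψ : C →ₐc[R] A)
    (h0 : ∀ c, φ c - ψ c ∈ (IsLocalRing.maximalIdeal R • ⊤ : Submodule R A)) : φ = ψ := by
  set ψ' : C →ₐc[R] A := ψ.comp (antipodeBialgHom R C) with hψ'
  set χ : C →ₐc[R] A := (toConv φ * toConv ψ').ofConv with hχ
  set a : WithConv (C →ₗ[R] A) := toConv (φ : C →ₐ[R] A).toLinearMap with ha
  set b : WithConv (C →ₗ[R] A) := toConv (ψ : C →ₐ[R] A).toLinearMap with hb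
  set b' : WithConv (C →ₗ[R] A) :=
    toConv ((ψ : C →ₐ[R] A).toLinearMap ∘ₗ HopfAlgebra.antipode R) with hb'
  have hbb' : b * b' = 1 := by
    apply WithConv.ofConv_injective
    ext c
    change LinearMap.mul' R A (TensorProduct.map (ψ : C →ₐ[R] A).toLinearMap
      ((ψ : C →ₐ[R] A).toLinearMap ∘ₗ HopfAlgebra.antipode R) (CoalgebraStruct.comul (R := R) c)) =
      algebraMap R A (CoalgebraStruct.counit (R := R) c)
    rw [mul'_map_comp_antipode, HopfAlgebra.mul_antipode_lTensor_comul_apply]
    exact AlgHomClass.commutes ψ _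
  have hχlin : ∀ c, χ c = (a * b') c := fun c => rfl
  have hmem : ∀ c, dfcL χ c ∈ (IsLocalRing.maximalIdeal R • ⊤ : Submodule R A) := by
    intro c
    have h1 : dfcL χ c = ((a - b) * b') c := by
      rw [sub_mul, hbb', dfcL_apply, hχlin]
      rfl
    rw [h1]
    exact mul'_map_mem_smul_top _ _ _ (fun c => h0 c) _
  have htriv := trivial_of_isMultType_local R A C hft hH hC χ hmem
  have hab' : a * b' = 1 := by
    apply WithConv.ofConv_injective
    ext c
    have := htriv c
    rw [dfcL_apply, sub_eq_zero, hχlin] at this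
    exact this
  have hab : a = b := by
    calc a = a * (b * b') := by rw [hbb', mul_one]
      _ = (a * b') * b := by ring
      _ = b := by rw [hab', one_mul]
  apply DFunLike.ext
  intro c
  have := congrArg (fun f : WithConv (C →ₗ[R] A) => f.ofConv c) hab
  exact this

end Groth.Agent.Lib.Helper24.MultRigid
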