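import Mathlib
import Groth.Prelude.Def_SGA3b
import Groth.Agent.Lib.Helper24.MultRigid.AnnIdem
import Groth.Agent.Lib.Helper24.MultRigid.NilBij
import Groth.Agent.Lib.Helper24.MultRigid.FamDesc
import Groth.Agent.Lib.Helper24.MultRigid.DiagNil3

/-!
# Helper24 — over a connected base, a quotient of a diagonalizable group which is of
multiplicative type is diagonalizable
-/

set_option autoImplicit false
universe u

open TensorProduct Coalgebra SGA3b

namespace Groth.Agent.Lib.Helper24.MultRigid.SubDiag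

open Groth.Agent.Lib.Helper24.MultRigid Groth.Agent.Lib.Helper24.MultRigid.AnnIdem
  Groth.Agent.Lib.Helper24.MultRigid.DiagNil

variable {R : Type u} [CommRing R] {Q : Type u} [CommRing Q] [HopfAlgebra R Q]
  {M : Type u} [CommGroup M]

set_option maxHeartbeats 1000000 in
theorem isDiag_of_surjective (hconn : ∀ e : R, IsIdempotentElem e → e = 0 ∨ e = 1)
    (hH : IsMultType R Q) (π : MonoidAlgebra R M →ₐc[R] Q) (hπ : Function.Surjective π) :
    IsDiag R Q := by
  classical
  obtain ⟨ℓ, hℓ⟩ : ∃ ℓ : M →* Q, ∀ m, ℓ m = π (MonoidAlgebra.single m 1) :=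
    ⟨(π : MonoidAlgebra R M →* Q).comp (MonoidAlgebra.of R M), fun _ => rfl⟩
  have hgl : ∀ m, IsGroupLikeElem R (ℓ m) := fun m => by
    rw [hℓ]
    exact (MonoidAlgebra.isGroupLikeElem_single_one m).map π
  obtain ⟨ℓ', hℓ', hℓ'inj⟩ : ∃ ℓ' : M ⧸ ℓ.toHomUnits.ker →* Q,
      (∀ m : M, ℓ' (QuotientGroup.mk m) = ℓ m) ∧ Function.Injective ℓ' := by
    refine ⟨(Units.coeHom Q).comp (QuotientGroup.kerLift ℓ.toHomUnits), fun m => ?_, ?_⟩
    · rw [MonoidHom.comp_apply, QuotientGroup.kerLift_mk, Units.coeHom_apply,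
        MonoidHom.coe_toHomUnits]
    · intro c c' h
      apply QuotientGroup.kerLift_injective ℓ.toHomUnits
      apply Units.ext
      exact h
  have hgl' : ∀ c, IsGroupLikeElem R (ℓ' c) := by
    intro c
    obtain ⟨m, rfl⟩ := QuotientGroup.mk_surjective c
    rw [hℓ']
    exact hgl m
  obtain ⟨ψ₀, hψ₀⟩ : ∃ ψ₀ : MonoidAlgebra R (M ⧸ ℓ.toHomUnits.ker) →ₐ[R] Q,
      ∀ c r, ψ₀ (MonoidAlgebra.single c r) = r • ℓ' c :=
    ⟨MonoidAlgebra.lift R Q _ ℓ', fun c r => MonoidAlgebra.lift_single _ _ _⟩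
  obtain ⟨ψ, hψ'⟩ : ∃ ψ : MonoidAlgebra R (M ⧸ ℓ.toHomUnits.ker) →ₐc[R] Q, ∀ x, ψ x = ψ₀ x := by
    refine ⟨BialgHom.ofAlgHom ψ₀ ?_ ?_, fun _ => rfl⟩
    · apply MonoidAlgebra.algHom_ext
      intro c
      rw [AlgHom.comp_apply, hψ₀, one_smul, Bialgebra.counitAlgHom_apply,
        Bialgebra.counitAlgHom_apply, (hgl' c).counit_eq_one,
        (MonoidAlgebra.isGroupLikeElem_single_one c).counit_eq_one]
      exact Subsingleton.elim _ _
    · apply MonoidAlgebra.algHom_ext
      intro c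
      rw [AlgHom.comp_apply, AlgHom.comp_apply, hψ₀, one_smul, Bialgebra.comulAlgHom_apply,
        Bialgebra.comulAlgHom_apply, (hgl' c).comul_eq_tmul_self,
        (MonoidAlgebra.isGroupLikeElem_single_one c).comul_eq_tmul_self,
        Algebra.TensorProduct.map_tmul, hψ₀, one_smul]
      exact Subsingleton.elim _ _
  have hψ1 : ∀ c, ψ (MonoidAlgebra.single c 1) = ℓ' c := fun c => by
    rw [hψ', hψ₀, one_smul]
  obtain ⟨ψl, hψl⟩ : ∃ ψl : MonoidAlgebra R (M ⧸ ℓ.toHomUnits.ker) →ₗ[R] Q, ∀ x, ψl x = ψ x :=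
    ⟨ψ.toCoalgHom.toLinearMap, fun _ => rfl⟩
  -- surjectivity
  have hsurj : Function.Surjective ψl := by
    intro q
    obtain ⟨x, rfl⟩ := hπ q
    change π x ∈ LinearMap.range ψl
    induction x using MonoidAlgebra.induction_linear with
    | zero => rw [map_zero]; exact Submodule.zero_mem _
    | add x y hx hy => rw [map_add]; exact Submodule.add_mem _ hx hy
    | single m r =>
      refine ⟨MonoidAlgebra.single (QuotientGroup.mk m) r, ?_⟩
      rw [hψl, hψ', hψ₀, hℓ', hℓ, ← map_smul, MonoidAlgebra.smul_single, smul_eq_mul, mul_one]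
  -- injectivity
  obtain ⟨J, _, _, T, _, _, hff, hB⟩ := exists_cover R Q hH
  haveI := hff
  choose B _ using hB
  haveI : ∀ j, Module.Flat R (T j) := fun j =>
    Module.Flat.of_retract (LinearMap.single R T j) (LinearMap.proj j)
      (LinearMap.proj_comp_single_same R T j)
  have hbc : ∀ j, Function.Bijective (ψl.baseChange (T j)) := by
    intro j
    apply (B j).bijective_of_bijective_mod (Jn := ⊥)
      (Algebra.TensorProduct.basis (T j) (MonoidAlgebra.basis (M ⧸ ℓ.toHomUnits.ker) R)) _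
    · intro x hx
      rw [Ideal.mem_bot] at hx
      rw [hx]
      exact IsNilpotent.zero
    · intro c
      rw [Algebra.TensorProduct.basis_apply, LinearMap.baseChange_tmul, basis_eq_single, hψl]
      exact GLBasis.isGroupLikeElem_one_tmul (T j)
        ((MonoidAlgebra.isGroupLikeElem_single_one c).map ψ)
    · intro c c' hcc' w hw
      rw [Algebra.TensorProduct.basis_apply, Algebra.TensorProduct.basis_apply,
        LinearMap.baseChange_tmul, LinearMap.baseChange_tmul, basis_eq_single, basis_eq_single,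
        hψl, hψl, hψ1, hψ1] at hw
      have hd : ℓ' (c * c'⁻¹) ≠ 1 := by
        intro h1
        rw [← map_one ℓ'] at h1
        have := hℓ'inj h1
        exact hcc' (mul_inv_eq_one.mp this)
      have hann := (eq_one_or_ann_eq_bot hconn hH (hgl' (c * c'⁻¹))).resolve_left hd
      have h2 : w • ((1 : T j) ⊗ₜ[R] (ℓ' (c * c'⁻¹) - 1)) = 0 := by
        have h3 : (1 : T j) ⊗ₜ[R] (ℓ' (c * c'⁻¹) - 1) =
            ((1 : T j) ⊗ₜ[R] ℓ' c - (1 : T j) ⊗ₜ[R] ℓ' c') * ((1 : T j) ⊗ₜ[R] ℓ' c'⁻¹) := by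
          rw [sub_mul, Algebra.TensorProduct.tmul_mul_tmul, Algebra.TensorProduct.tmul_mul_tmul,
            one_mul, ← map_mul, ← map_mul, mul_inv_cancel, map_one, TensorProduct.tmul_sub]
        rw [h3, ← smul_mul_assoc, hw, zero_mul]
      have h4 := mem_map_ann_of_smul_eq_zero (T j) _ w h2
      rwa [hann, Ideal.map_bot] at h4
    · intro hh
      obtain ⟨x, hx⟩ := LinearMap.lTensor_surjective (T j) hsurj hh
      refine ⟨x, ?_⟩
      rw [LinearMap.baseChange_eq_ltensor, hx, sub_self]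
      exact Submodule.zero_mem _
  have hinj : Function.Injective ψl := by
    rw [injective_iff_map_eq_zero]
    intro x hx
    apply FamDesc.eq_zero_of_forall R T (MonoidAlgebra R (M ⧸ ℓ.toHomUnits.ker))
    intro j
    apply (hbc j).1
    rw [map_zero, LinearMap.baseChange_tmul, hx, TensorProduct.tmul_zero]
  have hbij : Function.Bijective ψ := by
    constructor
    · intro x y hxy
      apply hinj
      rw [hψl, hψl, hxy]
    · intro q
      obtain ⟨x, hx⟩ := hsurj q
      exact ⟨x, by rw [← hψl, hx]⟩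
  exact ⟨M ⧸ ℓ.toHomUnits.ker, inferInstance, ⟨(BialgEquiv.ofBijective ψ hbij).symm⟩⟩

end Groth.Agent.Lib.Helper24.MultRigid.SubDiag
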